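import Cfsg.Agent.Lib.Coxeter.WeylOrder

/-! Generated certificate for the Weyl group of type B2. -/

set_option autoImplicit false

namespace Cfsg.Agent.Lib.Coxeter.DataB2

open WeylOrder

def words0 : List (List ℕ) := [
  [], [1], [0, 1], [1, 0, 1]
]

def table0 : List (List ℤ) := [
  [0, 1], [1, -1], [-1, 1], [0, -1]
]

def nxt0 : List (List ℕ) := [
  [0, 2, 1, 3], [1, 0, 3, 2]
]

def ded0 : List (ℕ × ℕ × ℕ) := [
  (3, 0, 1)
]

def level0 : Level := ⟨1, [0, 1], words0, table0, nxt0, ded0⟩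

def words1 : List (List ℕ) := [
  [], [0]
]

def table1 : List (List ℤ) := [
  [1, 0], [-1, 2]
]

def nxt1 : List (List ℕ) := [
  [1, 0], [0, 0]
]

def ded1 : List (ℕ × ℕ × ℕ) := [
]

def level1 : Level := ⟨0, [0], words1, table1, nxt1, ded1⟩

def levels : List Level := [level0, level1]

def cartan : List (List ℤ) := [[2, -2], [-1, 2]]

end Cfsg.Agent.Lib.Coxeter.DataB2
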