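import Cfsg.Agent.Lib.Coxeter.WeylOrder

/-! Generated certificate for the Weyl group of type E6. -/

set_option autoImplicit false

namespace Cfsg.Agent.Lib.Coxeter.DataE6

open WeylOrder

def words0 : List (List ℕ) := [
  [], [5], [4, 5], [3, 4, 5], [1, 3, 4, 5], [2, 3, 4, 5], [2, 1, 3, 4, 5], [0, 2, 3, 4, 5],
  [0, 2, 1, 3, 4, 5], [3, 2, 1, 3, 4, 5], [3, 0, 2, 1, 3, 4, 5], [4, 3, 2, 1, 3, 4, 5], [2, 3, 0, 2, 1, 3, 4, 5], [4, 3, 0, 2, 1, 3, 4, 5], [5, 4, 3, 2, 1, 3, 4, 5], [4, 2, 3, 0, 2, 1, 3, 4, 5],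
  [5, 4, 3, 0, 2, 1, 3, 4, 5], [3, 4, 2, 3, 0, 2, 1, 3, 4, 5], [5, 4, 2, 3, 0, 2, 1, 3, 4, 5], [1, 3, 4, 2, 3, 0, 2, 1, 3, 4, 5], [5, 3, 4, 2, 3, 0, 2, 1, 3, 4, 5], [5, 1, 3, 4, 2, 3, 0, 2, 1, 3, 4, 5], [4, 5, 3, 4, 2, 3, 0, 2, 1, 3, 4, 5], [4, 5, 1, 3, 4, 2, 3, 0, 2, 1, 3, 4, 5],
  [3, 4, 5, 1, 3, 4, 2, 3, 0, 2, 1, 3, 4, 5], [2, 3, 4, 5, 1, 3, 4, 2, 3, 0, 2, 1, 3, 4, 5], [0, 2, 3, 4, 5, 1, 3, 4, 2, 3, 0, 2, 1, 3, 4, 5]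
]

def table0 : List (List ℤ) := [
  [0, 0, 0, 0, 0, 1], [0, 0, 0, 0, 1, -1], [0, 0, 0, 1, -1, 0], [0, 1, 1, -1, 0, 0], [0, -1, 1, 0, 0, 0], [1, 1, -1, 0, 0, 0], [1, -1, -1, 1, 0, 0], [-1, 1, 0, 0, 0, 0],
  [-1, -1, 0, 1, 0, 0], [1, 0, 0, -1, 1, 0], [-1, 0, 1, -1, 1, 0], [1, 0, 0, 0, -1, 1], [0, 0, -1, 0, 1, 0], [-1, 0, 1, 0, -1, 1], [1, 0, 0, 0, 0, -1], [0, 0, -1, 1, -1, 1],
  [-1, 0, 1, 0, 0, -1], [0, 1, 0, -1, 0, 1], [0, 0, -1, 1, 0, -1], [0, -1, 0, 0, 0, 1], [0, 1, 0, -1, 1, -1], [0, -1, 0, 0, 1, -1], [0, 1, 0, 0, -1, 0], [0, -1, 0, 1, -1, 0],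
  [0, 0, 1, -1, 0, 0], [1, 0, -1, 0, 0, 0], [-1, 0, 0, 0, 0, 0]
]

def nxt0 : List (List ℕ) := [
  [0, 1, 2, 3, 4, 7, 8, 5, 6, 10, 9, 13, 12, 11, 16, 15, 14, 17, 18, 19, 20, 21, 22, 23, 24, 26, 25], [0, 1, 2, 4, 3, 6, 5, 8, 7, 9, 10, 11, 12, 13, 14, 15, 16, 19, 18, 17, 21, 20, 23, 22, 24, 25, 26], [0, 1, 2, 5, 6, 3, 4, 7, 8, 9, 12, 11, 10, 15, 14, 13, 18, 17, 16, 19, 20, 21, 22, 23, 25, 24, 26], [0, 1, 3, 2, 4, 5, 9, 7, 10, 6, 8, 11, 12, 13, 14, 17, 16, 15, 20, 19, 18, 21, 22, 24, 23, 25, 26], [0, 2, 1, 3, 4, 5, 6, 7, 8, 11, 13, 9, 15, 10, 14, 12, 16, 17, 18, 19, 22, 23, 20, 21, 24, 25, 26], [1, 0, 2, 3, 4, 5, 6, 7, 8, 9, 10, 14, 12, 16, 11, 18, 13, 20, 15, 21, 17, 19, 22, 23, 24, 25, 26]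
]

def ded0 : List (ℕ × ℕ × ℕ) := [
  (1, 0, 5), (1, 1, 5), (1, 2, 5), (1, 3, 5), (2, 0, 4), (2, 1, 4), (2, 2, 4), (2, 5, 4),
  (3, 0, 3), (3, 4, 3), (3, 5, 3), (4, 0, 1), (4, 3, 1), (4, 4, 1), (4, 5, 1), (5, 1, 2),
  (5, 3, 2), (5, 4, 2), (5, 5, 2), (6, 4, 1), (6, 5, 1), (7, 1, 0), (7, 2, 0), (7, 3, 0),
  (7, 4, 0), (7, 5, 0), (8, 2, 0), (8, 4, 0), (8, 5, 0), (9, 0, 3), (9, 1, 3), (9, 2, 3),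
  (9, 5, 3), (10, 1, 0), (10, 5, 0), (11, 0, 4), (11, 1, 4), (11, 2, 4), (11, 3, 4), (12, 0, 2),
  (12, 1, 2), (12, 3, 2), (12, 5, 2), (13, 1, 0), (13, 2, 4), (13, 3, 0), (14, 0, 5), (14, 1, 5),
  (14, 2, 5), (14, 3, 5), (14, 4, 5), (15, 0, 2), (15, 1, 2), (16, 1, 0), (16, 2, 5), (16, 3, 0),
  (16, 4, 0), (17, 0, 3), (17, 2, 3), (17, 4, 3), (18, 0, 2), (18, 1, 2), (18, 3, 5), (18, 4, 2),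
  (19, 0, 1), (19, 2, 1), (19, 3, 1), (19, 4, 1), (20, 0, 3), (20, 1, 5), (20, 2, 3), (21, 0, 1),
  (21, 2, 1), (21, 3, 1), (22, 0, 4), (22, 1, 4), (22, 2, 4), (22, 3, 4), (22, 5, 4), (23, 0, 1),
  (23, 2, 1), (23, 5, 1), (24, 0, 3), (24, 1, 3), (24, 4, 3), (24, 5, 3), (25, 1, 2), (25, 3, 2),
  (25, 4, 2), (25, 5, 2), (26, 1, 0), (26, 2, 0), (26, 3, 0), (26, 4, 0), (26, 5, 0)
]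

def level0 : Level := ⟨5, [0, 1, 2, 3, 4, 5], words0, table0, nxt0, ded0⟩

def words1 : List (List ℕ) := [
  [], [4], [3, 4], [1, 3, 4], [2, 3, 4], [2, 1, 3, 4], [0, 2, 3, 4], [0, 2, 1, 3, 4],
  [3, 2, 1, 3, 4], [3, 0, 2, 1, 3, 4], [4, 3, 2, 1, 3, 4], [2, 3, 0, 2, 1, 3, 4], [4, 3, 0, 2, 1, 3, 4], [4, 2, 3, 0, 2, 1, 3, 4], [3, 4, 2, 3, 0, 2, 1, 3, 4], [1, 3, 4, 2, 3, 0, 2, 1, 3, 4]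
]

def table1 : List (List ℤ) := [
  [0, 0, 0, 0, 1, 0], [0, 0, 0, 1, -1, 1], [0, 1, 1, -1, 0, 1], [0, -1, 1, 0, 0, 1], [1, 1, -1, 0, 0, 1], [1, -1, -1, 1, 0, 1], [-1, 1, 0, 0, 0, 1], [-1, -1, 0, 1, 0, 1],
  [1, 0, 0, -1, 1, 1], [-1, 0, 1, -1, 1, 1], [1, 0, 0, 0, -1, 2], [0, 0, -1, 0, 1, 1], [-1, 0, 1, 0, -1, 2], [0, 0, -1, 1, -1, 2], [0, 1, 0, -1, 0, 2], [0, -1, 0, 0, 0, 2]
]

def nxt1 : List (List ℕ) := [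
  [0, 1, 2, 3, 6, 7, 4, 5, 9, 8, 12, 11, 10, 13, 14, 15], [0, 1, 3, 2, 5, 4, 7, 6, 8, 9, 10, 11, 12, 13, 15, 14], [0, 1, 4, 5, 2, 3, 6, 7, 8, 11, 10, 9, 13, 12, 14, 15], [0, 2, 1, 3, 4, 8, 6, 9, 5, 7, 10, 11, 12, 14, 13, 15], [1, 0, 2, 3, 4, 5, 6, 7, 10, 12, 8, 13, 9, 11, 14, 15], [0, 0, 0, 0, 0, 0, 0, 0, 0, 0, 0, 0, 0, 0, 0, 0]
]

def ded1 : List (ℕ × ℕ × ℕ) := [
  (1, 0, 4), (1, 1, 4), (1, 2, 4), (2, 0, 3), (2, 4, 3), (3, 0, 1), (3, 3, 1), (3, 4, 1),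
  (4, 1, 2), (4, 3, 2), (4, 4, 2), (5, 4, 1), (6, 1, 0), (6, 2, 0), (6, 3, 0), (6, 4, 0),
  (7, 2, 0), (7, 4, 0), (8, 0, 3), (8, 1, 3), (8, 2, 3), (9, 1, 0), (10, 0, 4), (10, 1, 4),
  (10, 2, 4), (10, 3, 4), (11, 0, 2), (11, 1, 2), (11, 3, 2), (12, 1, 0), (12, 2, 4), (12, 3, 0),
  (13, 0, 2), (13, 1, 2), (14, 0, 3), (14, 2, 3), (14, 4, 3), (15, 0, 1), (15, 2, 1), (15, 3, 1),
  (15, 4, 1)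
]

def level1 : Level := ⟨4, [0, 1, 2, 3, 4], words1, table1, nxt1, ded1⟩

def words2 : List (List ℕ) := [
  [], [3], [1, 3], [2, 3], [2, 1, 3], [0, 2, 3], [0, 2, 1, 3], [3, 2, 1, 3],
  [3, 0, 2, 1, 3], [2, 3, 0, 2, 1, 3]
]

def table2 : List (List ℤ) := [
  [0, 0, 0, 1, 0, 0], [0, 1, 1, -1, 1, 0], [0, -1, 1, 0, 1, 0], [1, 1, -1, 0, 1, 0], [1, -1, -1, 1, 1, 0], [-1, 1, 0, 0, 1, 0], [-1, -1, 0, 1, 1, 0], [1, 0, 0, -1, 2, 0],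
  [-1, 0, 1, -1, 2, 0], [0, 0, -1, 0, 2, 0]
]

def nxt2 : List (List ℕ) := [
  [0, 1, 2, 5, 6, 3, 4, 8, 7, 9], [0, 2, 1, 4, 3, 6, 5, 7, 8, 9], [0, 3, 4, 1, 2, 5, 6, 7, 9, 8], [1, 0, 2, 3, 7, 5, 8, 4, 6, 9], [0, 0, 0, 0, 0, 0, 0, 0, 0, 0], [0, 0, 0, 0, 0, 0, 0, 0, 0, 0]
]

def ded2 : List (ℕ × ℕ × ℕ) := [
  (1, 0, 3), (2, 0, 1), (2, 3, 1), (3, 1, 2), (3, 3, 2), (5, 1, 0), (5, 2, 0), (5, 3, 0),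
  (6, 2, 0), (7, 0, 3), (7, 1, 3), (7, 2, 3), (8, 1, 0), (9, 0, 2), (9, 1, 2), (9, 3, 2)
]

def level2 : Level := ⟨3, [0, 1, 2, 3], words2, table2, nxt2, ded2⟩

def words3 : List (List ℕ) := [
  [], [2], [0, 2]
]

def table3 : List (List ℤ) := [
  [0, 0, 1, 0, 0, 0], [1, 0, -1, 1, 0, 0], [-1, 0, 0, 1, 0, 0]
]

def nxt3 : List (List ℕ) := [
  [0, 2, 1], [0, 1, 2], [1, 0, 2], [0, 0, 0], [0, 0, 0], [0, 0, 0]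
]

def ded3 : List (ℕ × ℕ × ℕ) := [
  (1, 1, 2), (2, 1, 0), (2, 2, 0)
]

def level3 : Level := ⟨2, [0, 1, 2], words3, table3, nxt3, ded3⟩

def words4 : List (List ℕ) := [
  [], [1]
]

def table4 : List (List ℤ) := [
  [0, 1, 0, 0, 0, 0], [0, -1, 0, 1, 0, 0]
]

def nxt4 : List (List ℕ) := [
  [0, 1], [1, 0], [0, 0], [0, 0], [0, 0], [0, 0]
]

def ded4 : List (ℕ × ℕ × ℕ) := [
  (1, 0, 1)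
]

def level4 : Level := ⟨1, [0, 1], words4, table4, nxt4, ded4⟩

def words5 : List (List ℕ) := [
  [], [0]
]

def table5 : List (List ℤ) := [
  [1, 0, 0, 0, 0, 0], [-1, 0, 1, 0, 0, 0]
]

def nxt5 : List (List ℕ) := [
  [1, 0], [0, 0], [0, 0], [0, 0], [0, 0], [0, 0]
]

def ded5 : List (ℕ × ℕ × ℕ) := [
]

def level5 : Level := ⟨0, [0], words5, table5, nxt5, ded5⟩

def levels : List Level := [level0, level1, level2, level3, level4, level5]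

def cartan : List (List ℤ) := [[2, 0, -1, 0, 0, 0], [0, 2, 0, -1, 0, 0], [-1, 0, 2, -1, 0, 0], [0, -1, -1, 2, -1, 0], [0, 0, 0, -1, 2, -1], [0, 0, 0, 0, -1, 2]]

end Cfsg.Agent.Lib.Coxeter.DataE6
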