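import Cfsg.Agent.Lib.Coxeter.WeylOrder

/-! Generated certificate for the Weyl group of type E7. -/

set_option autoImplicit false

namespace Cfsg.Agent.Lib.Coxeter.DataE7

open WeylOrder

def words0 : List (List ℕ) := [
  [], [6], [5, 6], [4, 5, 6], [3, 4, 5, 6], [1, 3, 4, 5, 6], [2, 3, 4, 5, 6], [2, 1, 3, 4, 5, 6],
  [0, 2, 3, 4, 5, 6], [0, 2, 1, 3, 4, 5, 6], [3, 2, 1, 3, 4, 5, 6], [3, 0, 2, 1, 3, 4, 5, 6], [4, 3, 2, 1, 3, 4, 5, 6], [2, 3, 0, 2, 1, 3, 4, 5, 6], [4, 3, 0, 2, 1, 3, 4, 5, 6], [5, 4, 3, 2, 1, 3, 4, 5, 6],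
  [4, 2, 3, 0, 2, 1, 3, 4, 5, 6], [5, 4, 3, 0, 2, 1, 3, 4, 5, 6], [6, 5, 4, 3, 2, 1, 3, 4, 5, 6], [3, 4, 2, 3, 0, 2, 1, 3, 4, 5, 6], [5, 4, 2, 3, 0, 2, 1, 3, 4, 5, 6], [6, 5, 4, 3, 0, 2, 1, 3, 4, 5, 6], [1, 3, 4, 2, 3, 0, 2, 1, 3, 4, 5, 6], [5, 3, 4, 2, 3, 0, 2, 1, 3, 4, 5, 6],
  [6, 5, 4, 2, 3, 0, 2, 1, 3, 4, 5, 6], [5, 1, 3, 4, 2, 3, 0, 2, 1, 3, 4, 5, 6], [4, 5, 3, 4, 2, 3, 0, 2, 1, 3, 4, 5, 6], [6, 5, 3, 4, 2, 3, 0, 2, 1, 3, 4, 5, 6], [4, 5, 1, 3, 4, 2, 3, 0, 2, 1, 3, 4, 5, 6], [6, 5, 1, 3, 4, 2, 3, 0, 2, 1, 3, 4, 5, 6], [6, 4, 5, 3, 4, 2, 3, 0, 2, 1, 3, 4, 5, 6], [3, 4, 5, 1, 3, 4, 2, 3, 0, 2, 1, 3, 4, 5, 6],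
  [6, 4, 5, 1, 3, 4, 2, 3, 0, 2, 1, 3, 4, 5, 6], [5, 6, 4, 5, 3, 4, 2, 3, 0, 2, 1, 3, 4, 5, 6], [2, 3, 4, 5, 1, 3, 4, 2, 3, 0, 2, 1, 3, 4, 5, 6], [6, 3, 4, 5, 1, 3, 4, 2, 3, 0, 2, 1, 3, 4, 5, 6], [5, 6, 4, 5, 1, 3, 4, 2, 3, 0, 2, 1, 3, 4, 5, 6], [0, 2, 3, 4, 5, 1, 3, 4, 2, 3, 0, 2, 1, 3, 4, 5, 6], [6, 2, 3, 4, 5, 1, 3, 4, 2, 3, 0, 2, 1, 3, 4, 5, 6], [5, 6, 3, 4, 5, 1, 3, 4, 2, 3, 0, 2, 1, 3, 4, 5, 6],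
  [6, 0, 2, 3, 4, 5, 1, 3, 4, 2, 3, 0, 2, 1, 3, 4, 5, 6], [5, 6, 2, 3, 4, 5, 1, 3, 4, 2, 3, 0, 2, 1, 3, 4, 5, 6], [4, 5, 6, 3, 4, 5, 1, 3, 4, 2, 3, 0, 2, 1, 3, 4, 5, 6], [5, 6, 0, 2, 3, 4, 5, 1, 3, 4, 2, 3, 0, 2, 1, 3, 4, 5, 6], [4, 5, 6, 2, 3, 4, 5, 1, 3, 4, 2, 3, 0, 2, 1, 3, 4, 5, 6], [4, 5, 6, 0, 2, 3, 4, 5, 1, 3, 4, 2, 3, 0, 2, 1, 3, 4, 5, 6], [3, 4, 5, 6, 2, 3, 4, 5, 1, 3, 4, 2, 3, 0, 2, 1, 3, 4, 5, 6], [3, 4, 5, 6, 0, 2, 3, 4, 5, 1, 3, 4, 2, 3, 0, 2, 1, 3, 4, 5, 6],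
  [1, 3, 4, 5, 6, 2, 3, 4, 5, 1, 3, 4, 2, 3, 0, 2, 1, 3, 4, 5, 6], [1, 3, 4, 5, 6, 0, 2, 3, 4, 5, 1, 3, 4, 2, 3, 0, 2, 1, 3, 4, 5, 6], [2, 3, 4, 5, 6, 0, 2, 3, 4, 5, 1, 3, 4, 2, 3, 0, 2, 1, 3, 4, 5, 6], [2, 1, 3, 4, 5, 6, 0, 2, 3, 4, 5, 1, 3, 4, 2, 3, 0, 2, 1, 3, 4, 5, 6], [3, 2, 1, 3, 4, 5, 6, 0, 2, 3, 4, 5, 1, 3, 4, 2, 3, 0, 2, 1, 3, 4, 5, 6], [4, 3, 2, 1, 3, 4, 5, 6, 0, 2, 3, 4, 5, 1, 3, 4, 2, 3, 0, 2, 1, 3, 4, 5, 6], [5, 4, 3, 2, 1, 3, 4, 5, 6, 0, 2, 3, 4, 5, 1, 3, 4, 2, 3, 0, 2, 1, 3, 4, 5, 6], [6, 5, 4, 3, 2, 1, 3, 4, 5, 6, 0, 2, 3, 4, 5, 1, 3, 4, 2, 3, 0, 2, 1, 3, 4, 5, 6]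
]

def table0 : List (List ℤ) := [
  [0, 0, 0, 0, 0, 0, 1], [0, 0, 0, 0, 0, 1, -1], [0, 0, 0, 0, 1, -1, 0], [0, 0, 0, 1, -1, 0, 0], [0, 1, 1, -1, 0, 0, 0], [0, -1, 1, 0, 0, 0, 0], [1, 1, -1, 0, 0, 0, 0], [1, -1, -1, 1, 0, 0, 0],
  [-1, 1, 0, 0, 0, 0, 0], [-1, -1, 0, 1, 0, 0, 0], [1, 0, 0, -1, 1, 0, 0], [-1, 0, 1, -1, 1, 0, 0], [1, 0, 0, 0, -1, 1, 0], [0, 0, -1, 0, 1, 0, 0], [-1, 0, 1, 0, -1, 1, 0], [1, 0, 0, 0, 0, -1, 1],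
  [0, 0, -1, 1, -1, 1, 0], [-1, 0, 1, 0, 0, -1, 1], [1, 0, 0, 0, 0, 0, -1], [0, 1, 0, -1, 0, 1, 0], [0, 0, -1, 1, 0, -1, 1], [-1, 0, 1, 0, 0, 0, -1], [0, -1, 0, 0, 0, 1, 0], [0, 1, 0, -1, 1, -1, 1],
  [0, 0, -1, 1, 0, 0, -1], [0, -1, 0, 0, 1, -1, 1], [0, 1, 0, 0, -1, 0, 1], [0, 1, 0, -1, 1, 0, -1], [0, -1, 0, 1, -1, 0, 1], [0, -1, 0, 0, 1, 0, -1], [0, 1, 0, 0, -1, 1, -1], [0, 0, 1, -1, 0, 0, 1],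
  [0, -1, 0, 1, -1, 1, -1], [0, 1, 0, 0, 0, -1, 0], [1, 0, -1, 0, 0, 0, 1], [0, 0, 1, -1, 0, 1, -1], [0, -1, 0, 1, 0, -1, 0], [-1, 0, 0, 0, 0, 0, 1], [1, 0, -1, 0, 0, 1, -1], [0, 0, 1, -1, 1, -1, 0],
  [-1, 0, 0, 0, 0, 1, -1], [1, 0, -1, 0, 1, -1, 0], [0, 0, 1, 0, -1, 0, 0], [-1, 0, 0, 0, 1, -1, 0], [1, 0, -1, 1, -1, 0, 0], [-1, 0, 0, 1, -1, 0, 0], [1, 1, 0, -1, 0, 0, 0], [-1, 1, 1, -1, 0, 0, 0],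
  [1, -1, 0, 0, 0, 0, 0], [-1, -1, 1, 0, 0, 0, 0], [0, 1, -1, 0, 0, 0, 0], [0, -1, -1, 1, 0, 0, 0], [0, 0, 0, -1, 1, 0, 0], [0, 0, 0, 0, -1, 1, 0], [0, 0, 0, 0, 0, -1, 1], [0, 0, 0, 0, 0, 0, -1]
]

def nxt0 : List (List ℕ) := [
  [0, 1, 2, 3, 4, 5, 8, 9, 6, 7, 11, 10, 14, 13, 12, 17, 16, 15, 21, 19, 20, 18, 22, 23, 24, 25, 26, 27, 28, 29, 30, 31, 32, 33, 37, 35, 36, 34, 40, 39, 38, 43, 42, 41, 45, 44, 47, 46, 49, 48, 50, 51, 52, 53, 54, 55], [0, 1, 2, 3, 5, 4, 7, 6, 9, 8, 10, 11, 12, 13, 14, 15, 16, 17, 18, 22, 20, 21, 19, 25, 24, 23, 28, 29, 26, 27, 32, 31, 30, 36, 34, 35, 33, 37, 38, 39, 40, 41, 42, 43, 44, 45, 48, 49, 46, 47, 51, 50, 52, 53, 54, 55], [0, 1, 2, 3, 6, 7, 4, 5, 8, 9, 10, 13, 12, 11, 16, 15, 14, 20, 18, 19, 17,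 24, 22, 23, 21, 25, 26, 27, 28, 29, 30, 34, 32, 33, 31, 38, 36, 37, 35, 41, 40, 39, 44, 43, 42, 45, 46, 50, 48, 51, 47, 49, 52, 53, 54, 55], [0, 1, 2, 4, 3, 5, 6, 10, 8, 11, 7, 9, 12, 13, 14, 15, 19, 17, 18, 16, 23, 21, 22, 20, 27, 25, 26, 24, 31, 29, 30, 28, 35, 33, 34, 32, 39, 37, 38, 36, 40, 41, 42, 43, 46, 47, 44, 45, 48, 49, 50, 52, 51, 53, 54, 55], [0, 1, 3, 2, 4, 5, 6, 7, 8, 9, 12, 14, 10, 16, 11, 15, 13, 17, 18, 19, 20, 21, 22, 26, 24, 28, 23, 30, 25, 32, 27, 31, 29, 33, 34, 35, 36, 37, 38, 42, 40, 44, 39, 45, 41, 43, 46, 47, 48, 49, 50, 51, 53, 52, 54, 55], [0, 2, 1, 3, 4, 5, 6, 7, 8, 9, 10, 11, 15, 13, 17, 12, 20, 14, 18, 23, 16, 21, 25, 19, 24, 22, 26, 27, 28, 29, 33, 31, 36, 30, 34, 39, 32, 37, 41, 35, 43, 38, 42,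 40, 44, 45, 46, 47, 48, 49, 50, 51, 52, 54, 53, 55], [1, 0, 2, 3, 4, 5, 6, 7, 8, 9, 10, 11, 12, 13, 14, 18, 16, 21, 15, 19, 24, 17, 22, 27, 20, 29, 30, 23, 32, 25, 26, 35, 28, 33, 38, 31, 36, 40, 34, 39, 37, 41, 42, 43, 44, 45, 46, 47, 48, 49, 50, 51, 52, 53, 55, 54]
]

def ded0 : List (ℕ × ℕ × ℕ) := [
  (1, 0, 6), (1, 1, 6), (1, 2, 6), (1, 3, 6), (1, 4, 6), (2, 0, 5), (2, 1, 5), (2, 2, 5),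
  (2, 3, 5), (2, 6, 5), (3, 0, 4), (3, 1, 4), (3, 2, 4), (3, 5, 4), (3, 6, 4), (4, 0, 3),
  (4, 4, 3), (4, 5, 3), (4, 6, 3), (5, 0, 1), (5, 3, 1), (5, 4, 1), (5, 5, 1), (5, 6, 1),
  (6, 1, 2), (6, 3, 2), (6, 4, 2), (6, 5, 2), (6, 6, 2), (7, 4, 1), (7, 5, 1), (7, 6, 1),
  (8, 1, 0), (8, 2, 0), (8, 3, 0), (8, 4, 0), (8, 5, 0), (8, 6, 0), (9, 2, 0), (9, 4, 0),
  (9, 5, 0), (9, 6, 0), (10, 0, 3), (10, 1, 3), (10, 2, 3), (10, 5, 3), (10, 6, 3), (11, 1, 0),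
  (11, 5, 0), (11, 6, 0), (12, 0, 4), (12, 1, 4), (12, 2, 4), (12, 3, 4), (12, 6, 4), (13, 0, 2),
  (13, 1, 2), (13, 3, 2), (13, 5, 2), (13, 6, 2), (14, 1, 0), (14, 2, 4), (14, 3, 0), (14, 6, 0),
  (15, 0, 5), (15, 1, 5), (15, 2, 5), (15, 3, 5), (15, 4, 5), (16, 0, 2), (16, 1, 2), (16, 6, 2),
  (17, 1, 0), (17, 2, 5), (17, 3, 0), (17, 4, 0), (18, 0, 6), (18, 1, 6), (18, 2, 6), (18, 3, 6),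
  (18, 4, 6), (18, 5, 6), (19, 0, 3), (19, 2, 3), (19, 4, 3), (19, 6, 3), (20, 0, 2), (20, 1, 2),
  (20, 3, 5), (20, 4, 2), (21, 1, 0), (21, 2, 6), (21, 3, 0), (21, 4, 0), (21, 5, 0), (22, 0, 1),
  (22, 2, 1), (22, 3, 1), (22, 4, 1), (22, 6, 1), (23, 0, 3), (23, 1, 5), (23, 2, 3), (24, 0, 2),
  (24, 1, 2), (24, 3, 6), (24, 4, 2), (24, 5, 2), (25, 0, 1), (25, 2, 1), (25, 3, 1), (26, 0, 4),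
  (26, 1, 4), (26, 2, 4), (26, 3, 4), (26, 5, 4), (27, 0, 3), (27, 1, 6), (27, 2, 3), (27, 4, 6),
  (27, 5, 3), (28, 0, 1), (28, 2, 1), (28, 5, 1), (29, 0, 1), (29, 2, 1), (29, 3, 1), (29, 4, 6),
  (29, 5, 1), (30, 0, 4), (30, 1, 4), (30, 2, 4), (30, 3, 4), (31, 0, 3), (31, 1, 3), (31, 4, 3),
  (31, 5, 3), (32, 0, 1), (32, 2, 1), (32, 3, 6), (33, 0, 5), (33, 1, 5), (33, 2, 5), (33, 3, 5),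
  (33, 4, 5), (33, 6, 5), (34, 1, 2), (34, 3, 2), (34, 4, 2), (34, 5, 2), (35, 0, 3), (35, 1, 3),
  (35, 2, 6), (35, 4, 3), (36, 0, 1), (36, 2, 1), (36, 3, 5), (36, 4, 1), (36, 6, 1), (37, 1, 0),
  (37, 2, 0), (37, 3, 0), (37, 4, 0), (37, 5, 0), (38, 0, 6), (38, 1, 2), (38, 3, 2), (38, 4, 2),
  (39, 0, 3), (39, 1, 3), (39, 2, 5), (39, 6, 3), (40, 1, 0), (40, 2, 0), (40, 3, 0), (40, 4, 0),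
  (41, 0, 5), (41, 1, 2), (41, 3, 2), (41, 6, 2), (42, 0, 4), (42, 1, 4), (42, 2, 4), (42, 3, 4),
  (42, 5, 4), (42, 6, 4), (43, 1, 0), (43, 2, 0), (43, 3, 0), (43, 6, 0), (44, 0, 4), (44, 1, 2),
  (44, 5, 2), (44, 6, 2), (45, 1, 0), (45, 2, 0), (45, 5, 0), (45, 6, 0), (46, 0, 3), (46, 2, 3),
  (46, 4, 3), (46, 5, 3), (46, 6, 3), (47, 4, 0), (47, 5, 0), (47, 6, 0), (48, 0, 1), (48, 2, 1),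
  (48, 3, 1), (48, 4, 1), (48, 5, 1), (48, 6, 1), (49, 3, 0), (49, 4, 0), (49, 5, 0), (49, 6, 0),
  (50, 0, 2), (50, 1, 2), (50, 3, 2), (50, 4, 2), (50, 5, 2), (50, 6, 2), (51, 0, 1), (51, 4, 1),
  (51, 5, 1), (51, 6, 1), (52, 0, 3), (52, 1, 3), (52, 2, 3), (52, 5, 3), (52, 6, 3), (53, 0, 4),
  (53, 1, 4), (53, 2, 4), (53, 3, 4), (53, 6, 4), (54, 0, 5), (54, 1, 5), (54, 2, 5), (54, 3, 5),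
  (54, 4, 5), (55, 0, 6), (55, 1, 6), (55, 2, 6), (55, 3, 6), (55, 4, 6), (55, 5, 6)
]

def level0 : Level := ⟨6, [0, 1, 2, 3, 4, 5, 6], words0, table0, nxt0, ded0⟩

def words1 : List (List ℕ) := [
  [], [5], [4, 5], [3, 4, 5], [1, 3, 4, 5], [2, 3, 4, 5], [2, 1, 3, 4, 5], [0, 2, 3, 4, 5],
  [0, 2, 1, 3, 4, 5], [3, 2, 1, 3, 4, 5], [3, 0, 2, 1, 3, 4, 5], [4, 3, 2, 1, 3, 4, 5], [2, 3, 0, 2, 1, 3, 4, 5], [4, 3, 0, 2, 1, 3, 4, 5], [5, 4, 3, 2, 1, 3, 4, 5], [4, 2, 3, 0, 2, 1, 3, 4, 5],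
  [5, 4, 3, 0, 2, 1, 3, 4, 5], [3, 4, 2, 3, 0, 2, 1, 3, 4, 5], [5, 4, 2, 3, 0, 2, 1, 3, 4, 5], [1, 3, 4, 2, 3, 0, 2, 1, 3, 4, 5], [5, 3, 4, 2, 3, 0, 2, 1, 3, 4, 5], [5, 1, 3, 4, 2, 3, 0, 2, 1, 3, 4, 5], [4, 5, 3, 4, 2, 3, 0, 2, 1, 3, 4, 5], [4, 5, 1, 3, 4, 2, 3, 0, 2, 1, 3, 4, 5],
  [3, 4, 5, 1, 3, 4, 2, 3, 0, 2, 1, 3, 4, 5], [2, 3, 4, 5, 1, 3, 4, 2, 3, 0, 2, 1, 3, 4, 5], [0, 2, 3, 4, 5, 1, 3, 4, 2, 3, 0, 2, 1, 3, 4, 5]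
]

def table1 : List (List ℤ) := [
  [0, 0, 0, 0, 0, 1, 0], [0, 0, 0, 0, 1, -1, 1], [0, 0, 0, 1, -1, 0, 1], [0, 1, 1, -1, 0, 0, 1], [0, -1, 1, 0, 0, 0, 1], [1, 1, -1, 0, 0, 0, 1], [1, -1, -1, 1, 0, 0, 1], [-1, 1, 0, 0, 0, 0, 1],
  [-1, -1, 0, 1, 0, 0, 1], [1, 0, 0, -1, 1, 0, 1], [-1, 0, 1, -1, 1, 0, 1], [1, 0, 0, 0, -1, 1, 1], [0, 0, -1, 0, 1, 0, 1], [-1, 0, 1, 0, -1, 1, 1], [1, 0, 0, 0, 0, -1, 2], [0, 0, -1, 1, -1, 1, 1],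
  [-1, 0, 1, 0, 0, -1, 2], [0, 1, 0, -1, 0, 1, 1], [0, 0, -1, 1, 0, -1, 2], [0, -1, 0, 0, 0, 1, 1], [0, 1, 0, -1, 1, -1, 2], [0, -1, 0, 0, 1, -1, 2], [0, 1, 0, 0, -1, 0, 2], [0, -1, 0, 1, -1, 0, 2],
  [0, 0, 1, -1, 0, 0, 2], [1, 0, -1, 0, 0, 0, 2], [-1, 0, 0, 0, 0, 0, 2]
]

def nxt1 : List (List ℕ) := [
  [0, 1, 2, 3, 4, 7, 8, 5, 6, 10, 9, 13, 12, 11, 16, 15, 14, 17, 18, 19, 20, 21, 22, 23, 24, 26, 25], [0, 1, 2, 4, 3, 6, 5, 8, 7, 9, 10, 11, 12, 13, 14, 15, 16, 19, 18, 17, 21, 20, 23, 22, 24, 25, 26], [0, 1, 2, 5, 6, 3, 4, 7, 8, 9, 12, 11, 10, 15, 14, 13, 18, 17, 16, 19, 20, 21, 22, 23, 25, 24, 26], [0, 1, 3, 2, 4, 5, 9, 7, 10, 6, 8, 11, 12, 13, 14, 17, 16, 15, 20, 19, 18, 21, 22, 24, 23, 25, 26], [0, 2, 1, 3, 4, 5, 6, 7, 8,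 11, 13, 9, 15, 10, 14, 12, 16, 17, 18, 19, 22, 23, 20, 21, 24, 25, 26], [1, 0, 2, 3, 4, 5, 6, 7, 8, 9, 10, 14, 12, 16, 11, 18, 13, 20, 15, 21, 17, 19, 22, 23, 24, 25, 26], [0, 0, 0, 0, 0, 0, 0, 0, 0, 0, 0, 0, 0, 0, 0, 0, 0, 0, 0, 0, 0, 0, 0, 0, 0, 0, 0]
]

def ded1 : List (ℕ × ℕ × ℕ) := [
  (1, 0, 5), (1, 1, 5), (1, 2, 5), (1, 3, 5), (2, 0, 4), (2, 1, 4), (2, 2, 4), (2, 5, 4),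
  (3, 0, 3), (3, 4, 3), (3, 5, 3), (4, 0, 1), (4, 3, 1), (4, 4, 1), (4, 5, 1), (5, 1, 2),
  (5, 3, 2), (5, 4, 2), (5, 5, 2), (6, 4, 1), (6, 5, 1), (7, 1, 0), (7, 2, 0), (7, 3, 0),
  (7, 4, 0), (7, 5, 0), (8, 2, 0), (8, 4, 0), (8, 5, 0), (9, 0, 3), (9, 1, 3), (9, 2, 3),
  (9, 5, 3), (10, 1, 0), (10, 5, 0), (11, 0, 4), (11, 1, 4), (11, 2, 4), (11, 3, 4), (12, 0, 2),
  (12, 1, 2), (12, 3, 2), (12, 5, 2), (13, 1, 0), (13, 2, 4), (13, 3, 0), (14, 0, 5), (14, 1, 5),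
  (14, 2, 5), (14, 3, 5), (14, 4, 5), (15, 0, 2), (15, 1, 2), (16, 1, 0), (16, 2, 5), (16, 3, 0),
  (16, 4, 0), (17, 0, 3), (17, 2, 3), (17, 4, 3), (18, 0, 2), (18, 1, 2), (18, 3, 5), (18, 4, 2),
  (19, 0, 1), (19, 2, 1), (19, 3, 1), (19, 4, 1), (20, 0, 3), (20, 1, 5), (20, 2, 3), (21, 0, 1),
  (21, 2, 1), (21, 3, 1), (22, 0, 4), (22, 1, 4), (22, 2, 4), (22, 3, 4), (22, 5, 4), (23, 0, 1),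
  (23, 2, 1), (23, 5, 1), (24, 0, 3), (24, 1, 3), (24, 4, 3), (24, 5, 3), (25, 1, 2), (25, 3, 2),
  (25, 4, 2), (25, 5, 2), (26, 1, 0), (26, 2, 0), (26, 3, 0), (26, 4, 0), (26, 5, 0)
]

def level1 : Level := ⟨5, [0, 1, 2, 3, 4, 5], words1, table1, nxt1, ded1⟩

def words2 : List (List ℕ) := [
  [], [4], [3, 4], [1, 3, 4], [2, 3, 4], [2, 1, 3, 4], [0, 2, 3, 4], [0, 2, 1, 3, 4],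
  [3, 2, 1, 3, 4], [3, 0, 2, 1, 3, 4], [4, 3, 2, 1, 3, 4], [2, 3, 0, 2, 1, 3, 4], [4, 3, 0, 2, 1, 3, 4], [4, 2, 3, 0, 2, 1, 3, 4], [3, 4, 2, 3, 0, 2, 1, 3, 4], [1, 3, 4, 2, 3, 0, 2, 1, 3, 4]
]

def table2 : List (List ℤ) := [
  [0, 0, 0, 0, 1, 0, 0], [0, 0, 0, 1, -1, 1, 0], [0, 1, 1, -1, 0, 1, 0], [0, -1, 1, 0, 0, 1, 0], [1, 1, -1, 0, 0, 1, 0], [1, -1, -1, 1, 0, 1, 0], [-1, 1, 0, 0, 0, 1, 0], [-1, -1, 0, 1, 0, 1, 0],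
  [1, 0, 0, -1, 1, 1, 0], [-1, 0, 1, -1, 1, 1, 0], [1, 0, 0, 0, -1, 2, 0], [0, 0, -1, 0, 1, 1, 0], [-1, 0, 1, 0, -1, 2, 0], [0, 0, -1, 1, -1, 2, 0], [0, 1, 0, -1, 0, 2, 0], [0, -1, 0, 0, 0, 2, 0]
]

def nxt2 : List (List ℕ) := [
  [0, 1, 2, 3, 6, 7, 4, 5, 9, 8, 12, 11, 10, 13, 14, 15], [0, 1, 3, 2, 5, 4, 7, 6, 8, 9, 10, 11, 12, 13, 15, 14], [0, 1, 4, 5, 2, 3, 6, 7, 8, 11, 10, 9, 13, 12, 14, 15], [0, 2, 1, 3, 4, 8, 6, 9, 5, 7, 10, 11, 12, 14, 13, 15], [1, 0, 2, 3, 4, 5, 6, 7, 10, 12, 8, 13, 9, 11, 14, 15], [0, 0, 0, 0, 0, 0, 0, 0, 0, 0, 0, 0, 0, 0, 0, 0], [0, 0, 0, 0, 0, 0, 0, 0, 0, 0, 0, 0, 0, 0, 0, 0]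
]

def ded2 : List (ℕ × ℕ × ℕ) := [
  (1, 0, 4), (1, 1, 4), (1, 2, 4), (2, 0, 3), (2, 4, 3), (3, 0, 1), (3, 3, 1), (3, 4, 1),
  (4, 1, 2), (4, 3, 2), (4, 4, 2), (5, 4, 1), (6, 1, 0), (6, 2, 0), (6, 3, 0), (6, 4, 0),
  (7, 2, 0), (7, 4, 0), (8, 0, 3), (8, 1, 3), (8, 2, 3), (9, 1, 0), (10, 0, 4), (10, 1, 4),
  (10, 2, 4), (10, 3, 4), (11, 0, 2), (11, 1, 2), (11, 3, 2), (12, 1, 0), (12, 2, 4), (12, 3, 0),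
  (13, 0, 2), (13, 1, 2), (14, 0, 3), (14, 2, 3), (14, 4, 3), (15, 0, 1), (15, 2, 1), (15, 3, 1),
  (15, 4, 1)
]

def level2 : Level := ⟨4, [0, 1, 2, 3, 4], words2, table2, nxt2, ded2⟩

def words3 : List (List ℕ) := [
  [], [3], [1, 3], [2, 3], [2, 1, 3], [0, 2, 3], [0, 2, 1, 3], [3, 2, 1, 3],
  [3, 0, 2, 1, 3], [2, 3, 0, 2, 1, 3]
]

def table3 : List (List ℤ) := [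
  [0, 0, 0, 1, 0, 0, 0], [0, 1, 1, -1, 1, 0, 0], [0, -1, 1, 0, 1, 0, 0], [1, 1, -1, 0, 1, 0, 0], [1, -1, -1, 1, 1, 0, 0], [-1, 1, 0, 0, 1, 0, 0], [-1, -1, 0, 1, 1, 0, 0], [1, 0, 0, -1, 2, 0, 0],
  [-1, 0, 1, -1, 2, 0, 0], [0, 0, -1, 0, 2, 0, 0]
]

def nxt3 : List (List ℕ) := [
  [0, 1, 2, 5, 6, 3, 4, 8, 7, 9], [0, 2, 1, 4, 3, 6, 5, 7, 8, 9], [0, 3, 4, 1, 2, 5, 6, 7, 9, 8], [1, 0, 2, 3, 7, 5, 8, 4, 6, 9], [0, 0, 0, 0, 0, 0, 0, 0, 0, 0], [0, 0, 0, 0, 0, 0, 0, 0, 0, 0], [0, 0, 0, 0, 0, 0, 0, 0, 0, 0]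
]

def ded3 : List (ℕ × ℕ × ℕ) := [
  (1, 0, 3), (2, 0, 1), (2, 3, 1), (3, 1, 2), (3, 3, 2), (5, 1, 0), (5, 2, 0), (5, 3, 0),
  (6, 2, 0), (7, 0, 3), (7, 1, 3), (7, 2, 3), (8, 1, 0), (9, 0, 2), (9, 1, 2), (9, 3, 2)
]

def level3 : Level := ⟨3, [0, 1, 2, 3], words3, table3, nxt3, ded3⟩

def words4 : List (List ℕ) := [
  [], [2], [0, 2]
]

def table4 : List (List ℤ) := [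
  [0, 0, 1, 0, 0, 0, 0], [1, 0, -1, 1, 0, 0, 0], [-1, 0, 0, 1, 0, 0, 0]
]

def nxt4 : List (List ℕ) := [
  [0, 2, 1], [0, 1, 2], [1, 0, 2], [0, 0, 0], [0, 0, 0], [0, 0, 0], [0, 0, 0]
]

def ded4 : List (ℕ × ℕ × ℕ) := [
  (1, 1, 2), (2, 1, 0), (2, 2, 0)
]

def level4 : Level := ⟨2, [0, 1, 2], words4, table4, nxt4, ded4⟩

def words5 : List (List ℕ) := [
  [], [1]
]

def table5 : List (List ℤ) := [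
  [0, 1, 0, 0, 0, 0, 0], [0, -1, 0, 1, 0, 0, 0]
]

def nxt5 : List (List ℕ) := [
  [0, 1], [1, 0], [0, 0], [0, 0], [0, 0], [0, 0], [0, 0]
]

def ded5 : List (ℕ × ℕ × ℕ) := [
  (1, 0, 1)
]

def level5 : Level := ⟨1, [0, 1], words5, table5, nxt5, ded5⟩

def words6 : List (List ℕ) := [
  [], [0]
]

def table6 : List (List ℤ) := [
  [1, 0, 0, 0, 0, 0, 0], [-1, 0, 1, 0, 0, 0, 0]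
]

def nxt6 : List (List ℕ) := [
  [1, 0], [0, 0], [0, 0], [0, 0], [0, 0], [0, 0], [0, 0]
]

def ded6 : List (ℕ × ℕ × ℕ) := [
]

def level6 : Level := ⟨0, [0], words6, table6, nxt6, ded6⟩

def levels : List Level := [level0, level1, level2, level3, level4, level5, level6]

def cartan : List (List ℤ) := [[2, 0, -1, 0, 0, 0, 0], [0, 2, 0, -1, 0, 0, 0], [-1, 0, 2, -1, 0, 0, 0], [0, -1, -1, 2, -1, 0, 0], [0, 0, 0, -1, 2, -1, 0], [0, 0, 0, 0, -1, 2, -1], [0, 0, 0, 0, 0, -1, 2]]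

end Cfsg.Agent.Lib.Coxeter.DataE7
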