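import Cfsg.Agent.Lib.Coxeter.WeylOrder

/-! Generated certificate for the Weyl group of type E8. -/

set_option autoImplicit false

namespace Cfsg.Agent.Lib.Coxeter.DataE8

open WeylOrder

def words0 : List (List ℕ) := [
  [], [7], [6, 7], [5, 6, 7], [4, 5, 6, 7], [3, 4, 5, 6, 7], [1, 3, 4, 5, 6, 7], [2, 3, 4, 5, 6, 7],
  [2, 1, 3, 4, 5, 6, 7], [0, 2, 3, 4, 5, 6, 7], [0, 2, 1, 3, 4, 5, 6, 7], [3, 2, 1, 3, 4, 5, 6, 7], [3, 0, 2, 1, 3, 4, 5, 6, 7], [4, 3, 2, 1, 3, 4, 5, 6, 7], [2, 3, 0, 2, 1, 3, 4, 5, 6, 7], [4, 3, 0, 2, 1, 3, 4, 5, 6, 7],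
  [5, 4, 3, 2, 1, 3, 4, 5, 6, 7], [4, 2, 3, 0, 2, 1, 3, 4, 5, 6, 7], [5, 4, 3, 0, 2, 1, 3, 4, 5, 6, 7], [6, 5, 4, 3, 2, 1, 3, 4, 5, 6, 7], [3, 4, 2, 3, 0, 2, 1, 3, 4, 5, 6, 7], [5, 4, 2, 3, 0, 2, 1, 3, 4, 5, 6, 7], [6, 5, 4, 3, 0, 2, 1, 3, 4, 5, 6, 7], [7, 6, 5, 4, 3, 2, 1, 3, 4, 5, 6, 7],
  [1, 3, 4, 2, 3, 0, 2, 1, 3, 4, 5, 6, 7], [5, 3, 4, 2, 3, 0, 2, 1, 3, 4, 5, 6, 7], [6, 5, 4, 2, 3, 0, 2, 1, 3, 4, 5, 6, 7], [7, 6, 5, 4, 3, 0, 2, 1, 3, 4, 5, 6, 7], [5, 1, 3, 4, 2, 3, 0, 2, 1, 3, 4, 5, 6, 7], [4, 5, 3, 4, 2, 3, 0, 2, 1, 3, 4, 5, 6, 7], [6, 5, 3, 4, 2, 3, 0, 2, 1, 3, 4, 5, 6, 7], [7, 6, 5, 4, 2, 3, 0, 2, 1, 3, 4, 5, 6, 7],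
  [4, 5, 1, 3, 4, 2, 3, 0, 2, 1, 3, 4, 5, 6, 7], [6, 5, 1, 3, 4, 2, 3, 0, 2, 1, 3, 4, 5, 6, 7], [6, 4, 5, 3, 4, 2, 3, 0, 2, 1, 3, 4, 5, 6, 7], [7, 6, 5, 3, 4, 2, 3, 0, 2, 1, 3, 4, 5, 6, 7], [3, 4, 5, 1, 3, 4, 2, 3, 0, 2, 1, 3, 4, 5, 6, 7], [6, 4, 5, 1, 3, 4, 2, 3, 0, 2, 1, 3, 4, 5, 6, 7], [7, 6, 5, 1, 3, 4, 2, 3, 0, 2, 1, 3, 4, 5, 6, 7], [5, 6, 4, 5, 3, 4, 2, 3, 0, 2, 1, 3, 4, 5, 6, 7],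
  [7, 6, 4, 5, 3, 4, 2, 3, 0, 2, 1, 3, 4, 5, 6, 7], [2, 3, 4, 5, 1, 3, 4, 2, 3, 0, 2, 1, 3, 4, 5, 6, 7], [6, 3, 4, 5, 1, 3, 4, 2, 3, 0, 2, 1, 3, 4, 5, 6, 7], [5, 6, 4, 5, 1, 3, 4, 2, 3, 0, 2, 1, 3, 4, 5, 6, 7], [7, 6, 4, 5, 1, 3, 4, 2, 3, 0, 2, 1, 3, 4, 5, 6, 7], [7, 5, 6, 4, 5, 3, 4, 2, 3, 0, 2, 1, 3, 4, 5, 6, 7], [0, 2, 3, 4, 5, 1, 3, 4, 2, 3, 0, 2, 1, 3, 4, 5, 6, 7], [6, 2, 3, 4, 5, 1, 3, 4, 2, 3, 0, 2, 1, 3, 4, 5, 6, 7],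
  [5, 6, 3, 4, 5, 1, 3, 4, 2, 3, 0, 2, 1, 3, 4, 5, 6, 7], [7, 6, 3, 4, 5, 1, 3, 4, 2, 3, 0, 2, 1, 3, 4, 5, 6, 7], [7, 5, 6, 4, 5, 1, 3, 4, 2, 3, 0, 2, 1, 3, 4, 5, 6, 7], [6, 7, 5, 6, 4, 5, 3, 4, 2, 3, 0, 2, 1, 3, 4, 5, 6, 7], [6, 0, 2, 3, 4, 5, 1, 3, 4, 2, 3, 0, 2, 1, 3, 4, 5, 6, 7], [5, 6, 2, 3, 4, 5, 1, 3, 4, 2, 3, 0, 2, 1, 3, 4, 5, 6, 7], [7, 6, 2, 3, 4, 5, 1, 3, 4, 2, 3, 0, 2, 1, 3, 4, 5, 6, 7], [4, 5, 6, 3, 4, 5, 1, 3, 4, 2, 3, 0, 2, 1, 3, 4, 5, 6, 7],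
  [7, 5, 6, 3, 4, 5, 1, 3, 4, 2, 3, 0, 2, 1, 3, 4, 5, 6, 7], [6, 7, 5, 6, 4, 5, 1, 3, 4, 2, 3, 0, 2, 1, 3, 4, 5, 6, 7], [5, 6, 0, 2, 3, 4, 5, 1, 3, 4, 2, 3, 0, 2, 1, 3, 4, 5, 6, 7], [7, 6, 0, 2, 3, 4, 5, 1, 3, 4, 2, 3, 0, 2, 1, 3, 4, 5, 6, 7], [4, 5, 6, 2, 3, 4, 5, 1, 3, 4, 2, 3, 0, 2, 1, 3, 4, 5, 6, 7], [7, 5, 6, 2, 3, 4, 5, 1, 3, 4, 2, 3, 0, 2, 1, 3, 4, 5, 6, 7], [7, 4, 5, 6, 3, 4, 5, 1, 3, 4, 2, 3, 0, 2, 1, 3, 4, 5, 6, 7], [6, 7, 5, 6, 3, 4, 5, 1, 3, 4, 2, 3, 0, 2, 1, 3, 4, 5, 6, 7],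
  [4, 5, 6, 0, 2, 3, 4, 5, 1, 3, 4, 2, 3, 0, 2, 1, 3, 4, 5, 6, 7], [7, 5, 6, 0, 2, 3, 4, 5, 1, 3, 4, 2, 3, 0, 2, 1, 3, 4, 5, 6, 7], [3, 4, 5, 6, 2, 3, 4, 5, 1, 3, 4, 2, 3, 0, 2, 1, 3, 4, 5, 6, 7], [7, 4, 5, 6, 2, 3, 4, 5, 1, 3, 4, 2, 3, 0, 2, 1, 3, 4, 5, 6, 7], [6, 7, 5, 6, 2, 3, 4, 5, 1, 3, 4, 2, 3, 0, 2, 1, 3, 4, 5, 6, 7], [6, 7, 4, 5, 6, 3, 4, 5, 1, 3, 4, 2, 3, 0, 2, 1, 3, 4, 5, 6, 7], [3, 4, 5, 6, 0, 2, 3, 4, 5, 1, 3, 4, 2, 3, 0, 2, 1, 3, 4, 5, 6, 7], [7, 4, 5, 6, 0, 2, 3, 4, 5, 1, 3, 4, 2, 3, 0, 2, 1, 3, 4, 5, 6, 7],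
  [6, 7, 5, 6, 0, 2, 3, 4, 5, 1, 3, 4, 2, 3, 0, 2, 1, 3, 4, 5, 6, 7], [1, 3, 4, 5, 6, 2, 3, 4, 5, 1, 3, 4, 2, 3, 0, 2, 1, 3, 4, 5, 6, 7], [7, 3, 4, 5, 6, 2, 3, 4, 5, 1, 3, 4, 2, 3, 0, 2, 1, 3, 4, 5, 6, 7], [6, 7, 4, 5, 6, 2, 3, 4, 5, 1, 3, 4, 2, 3, 0, 2, 1, 3, 4, 5, 6, 7], [5, 6, 7, 4, 5, 6, 3, 4, 5, 1, 3, 4, 2, 3, 0, 2, 1, 3, 4, 5, 6, 7], [1, 3, 4, 5, 6, 0, 2, 3, 4, 5, 1, 3, 4, 2, 3, 0, 2, 1, 3, 4, 5, 6, 7], [2, 3, 4, 5, 6, 0, 2, 3, 4, 5, 1, 3, 4, 2, 3, 0, 2, 1, 3, 4, 5, 6, 7], [7, 3, 4, 5, 6, 0, 2, 3, 4, 5, 1, 3, 4, 2, 3, 0, 2, 1, 3, 4, 5, 6, 7],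
  [6, 7, 4, 5, 6, 0, 2, 3, 4, 5, 1, 3, 4, 2, 3, 0, 2, 1, 3, 4, 5, 6, 7], [7, 1, 3, 4, 5, 6, 2, 3, 4, 5, 1, 3, 4, 2, 3, 0, 2, 1, 3, 4, 5, 6, 7], [6, 7, 3, 4, 5, 6, 2, 3, 4, 5, 1, 3, 4, 2, 3, 0, 2, 1, 3, 4, 5, 6, 7], [5, 6, 7, 4, 5, 6, 2, 3, 4, 5, 1, 3, 4, 2, 3, 0, 2, 1, 3, 4, 5, 6, 7], [2, 1, 3, 4, 5, 6, 0, 2, 3, 4, 5, 1, 3, 4, 2, 3, 0, 2, 1, 3, 4, 5, 6, 7], [7, 1, 3, 4, 5, 6, 0, 2, 3, 4, 5, 1, 3, 4, 2, 3, 0, 2, 1, 3, 4, 5, 6, 7], [7, 2, 3, 4, 5, 6, 0, 2, 3, 4, 5, 1, 3, 4, 2, 3, 0, 2, 1, 3, 4, 5, 6, 7], [6, 7, 3, 4, 5, 6, 0, 2, 3, 4, 5, 1, 3, 4, 2, 3, 0, 2, 1, 3, 4, 5, 6, 7],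
  [5, 6, 7, 4, 5, 6, 0, 2, 3, 4, 5, 1, 3, 4, 2, 3, 0, 2, 1, 3, 4, 5, 6, 7], [6, 7, 1, 3, 4, 5, 6, 2, 3, 4, 5, 1, 3, 4, 2, 3, 0, 2, 1, 3, 4, 5, 6, 7], [5, 6, 7, 3, 4, 5, 6, 2, 3, 4, 5, 1, 3, 4, 2, 3, 0, 2, 1, 3, 4, 5, 6, 7], [3, 2, 1, 3, 4, 5, 6, 0, 2, 3, 4, 5, 1, 3, 4, 2, 3, 0, 2, 1, 3, 4, 5, 6, 7], [7, 2, 1, 3, 4, 5, 6, 0, 2, 3, 4, 5, 1, 3, 4, 2, 3, 0, 2, 1, 3, 4, 5, 6, 7], [6, 7, 1, 3, 4, 5, 6, 0, 2, 3, 4, 5, 1, 3, 4, 2, 3, 0, 2, 1, 3, 4, 5, 6, 7], [6, 7, 2, 3, 4, 5, 6, 0, 2, 3, 4, 5, 1, 3, 4, 2, 3, 0, 2, 1, 3, 4, 5, 6, 7], [5, 6, 7, 3, 4, 5, 6, 0, 2, 3, 4, 5, 1, 3, 4, 2, 3, 0, 2, 1, 3, 4, 5, 6, 7],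
  [5, 6, 7, 1, 3, 4, 5, 6, 2, 3, 4, 5, 1, 3, 4, 2, 3, 0, 2, 1, 3, 4, 5, 6, 7], [4, 5, 6, 7, 3, 4, 5, 6, 2, 3, 4, 5, 1, 3, 4, 2, 3, 0, 2, 1, 3, 4, 5, 6, 7], [4, 3, 2, 1, 3, 4, 5, 6, 0, 2, 3, 4, 5, 1, 3, 4, 2, 3, 0, 2, 1, 3, 4, 5, 6, 7], [7, 3, 2, 1, 3, 4, 5, 6, 0, 2, 3, 4, 5, 1, 3, 4, 2, 3, 0, 2, 1, 3, 4, 5, 6, 7], [6, 7, 2, 1, 3, 4, 5, 6, 0, 2, 3, 4, 5, 1, 3, 4, 2, 3, 0, 2, 1, 3, 4, 5, 6, 7], [5, 6, 7, 1, 3, 4, 5, 6, 0, 2, 3, 4, 5, 1, 3, 4, 2, 3, 0, 2, 1, 3, 4, 5, 6, 7], [5, 6, 7, 2, 3, 4, 5, 6, 0, 2, 3, 4, 5, 1, 3, 4, 2, 3, 0, 2, 1, 3, 4, 5, 6, 7], [4, 5, 6, 7, 3, 4, 5, 6, 0, 2, 3, 4, 5, 1, 3, 4, 2, 3, 0, 2, 1, 3, 4, 5, 6, 7],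
  [4, 5, 6, 7, 1, 3, 4, 5, 6, 2, 3, 4, 5, 1, 3, 4, 2, 3, 0, 2, 1, 3, 4, 5, 6, 7], [5, 4, 3, 2, 1, 3, 4, 5, 6, 0, 2, 3, 4, 5, 1, 3, 4, 2, 3, 0, 2, 1, 3, 4, 5, 6, 7], [7, 4, 3, 2, 1, 3, 4, 5, 6, 0, 2, 3, 4, 5, 1, 3, 4, 2, 3, 0, 2, 1, 3, 4, 5, 6, 7], [6, 7, 3, 2, 1, 3, 4, 5, 6, 0, 2, 3, 4, 5, 1, 3, 4, 2, 3, 0, 2, 1, 3, 4, 5, 6, 7], [5, 6, 7, 2, 1, 3, 4, 5, 6, 0, 2, 3, 4, 5, 1, 3, 4, 2, 3, 0, 2, 1, 3, 4, 5, 6, 7], [4, 5, 6, 7, 1, 3, 4, 5, 6, 0, 2, 3, 4, 5, 1, 3, 4, 2, 3, 0, 2, 1, 3, 4, 5, 6, 7], [4, 5, 6, 7, 2, 3, 4, 5, 6, 0, 2, 3, 4, 5, 1, 3, 4, 2, 3, 0, 2, 1, 3, 4, 5, 6, 7], [3, 4, 5, 6, 7, 1, 3, 4, 5, 6, 2, 3, 4, 5, 1, 3, 4, 2, 3, 0, 2, 1, 3, 4, 5, 6, 7],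
  [6, 5, 4, 3, 2, 1, 3, 4, 5, 6, 0, 2, 3, 4, 5, 1, 3, 4, 2, 3, 0, 2, 1, 3, 4, 5, 6, 7], [7, 5, 4, 3, 2, 1, 3, 4, 5, 6, 0, 2, 3, 4, 5, 1, 3, 4, 2, 3, 0, 2, 1, 3, 4, 5, 6, 7], [6, 7, 4, 3, 2, 1, 3, 4, 5, 6, 0, 2, 3, 4, 5, 1, 3, 4, 2, 3, 0, 2, 1, 3, 4, 5, 6, 7], [5, 6, 7, 3, 2, 1, 3, 4, 5, 6, 0, 2, 3, 4, 5, 1, 3, 4, 2, 3, 0, 2, 1, 3, 4, 5, 6, 7], [4, 5, 6, 7, 2, 1, 3, 4, 5, 6, 0, 2, 3, 4, 5, 1, 3, 4, 2, 3, 0, 2, 1, 3, 4, 5, 6, 7], [3, 4, 5, 6, 7, 1, 3, 4, 5, 6, 0, 2, 3, 4, 5, 1, 3, 4, 2, 3, 0, 2, 1, 3, 4, 5, 6, 7], [3, 4, 5, 6, 7, 2, 3, 4, 5, 6, 0, 2, 3, 4, 5, 1, 3, 4, 2, 3, 0, 2, 1, 3, 4, 5, 6, 7], [2, 3, 4, 5, 6, 7, 1, 3, 4, 5, 6, 2, 3, 4, 5, 1, 3, 4, 2, 3, 0, 2, 1, 3, 4, 5, 6, 7],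
  [7, 6, 5, 4, 3, 2, 1, 3, 4, 5, 6, 0, 2, 3, 4, 5, 1, 3, 4, 2, 3, 0, 2, 1, 3, 4, 5, 6, 7], [6, 7, 5, 4, 3, 2, 1, 3, 4, 5, 6, 0, 2, 3, 4, 5, 1, 3, 4, 2, 3, 0, 2, 1, 3, 4, 5, 6, 7], [5, 6, 7, 4, 3, 2, 1, 3, 4, 5, 6, 0, 2, 3, 4, 5, 1, 3, 4, 2, 3, 0, 2, 1, 3, 4, 5, 6, 7], [4, 5, 6, 7, 3, 2, 1, 3, 4, 5, 6, 0, 2, 3, 4, 5, 1, 3, 4, 2, 3, 0, 2, 1, 3, 4, 5, 6, 7], [3, 4, 5, 6, 7, 2, 1, 3, 4, 5, 6, 0, 2, 3, 4, 5, 1, 3, 4, 2, 3, 0, 2, 1, 3, 4, 5, 6, 7], [2, 3, 4, 5, 6, 7, 1, 3, 4, 5, 6, 0, 2, 3, 4, 5, 1, 3, 4, 2, 3, 0, 2, 1, 3, 4, 5, 6, 7], [1, 3, 4, 5, 6, 7, 2, 3, 4, 5, 6, 0, 2, 3, 4, 5, 1, 3, 4, 2, 3, 0, 2, 1, 3, 4, 5, 6, 7], [0, 2, 3, 4, 5, 6, 7, 1, 3, 4, 5, 6, 2, 3, 4, 5, 1, 3, 4, 2, 3, 0, 2, 1, 3, 4, 5, 6, 7],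
  [6, 7, 6, 5, 4, 3, 2, 1, 3, 4, 5, 6, 0, 2, 3, 4, 5, 1, 3, 4, 2, 3, 0, 2, 1, 3, 4, 5, 6, 7], [5, 6, 7, 5, 4, 3, 2, 1, 3, 4, 5, 6, 0, 2, 3, 4, 5, 1, 3, 4, 2, 3, 0, 2, 1, 3, 4, 5, 6, 7], [4, 5, 6, 7, 4, 3, 2, 1, 3, 4, 5, 6, 0, 2, 3, 4, 5, 1, 3, 4, 2, 3, 0, 2, 1, 3, 4, 5, 6, 7], [3, 4, 5, 6, 7, 3, 2, 1, 3, 4, 5, 6, 0, 2, 3, 4, 5, 1, 3, 4, 2, 3, 0, 2, 1, 3, 4, 5, 6, 7], [1, 3, 4, 5, 6, 7, 2, 1, 3, 4, 5, 6, 0, 2, 3, 4, 5, 1, 3, 4, 2, 3, 0, 2, 1, 3, 4, 5, 6, 7], [2, 3, 4, 5, 6, 7, 2, 1, 3, 4, 5, 6, 0, 2, 3, 4, 5, 1, 3, 4, 2, 3, 0, 2, 1, 3, 4, 5, 6, 7], [0, 2, 3, 4, 5, 6, 7, 1, 3, 4, 5, 6, 0, 2, 3, 4, 5, 1, 3, 4, 2, 3, 0, 2, 1, 3, 4, 5, 6, 7], [5, 6, 7, 6, 5, 4, 3, 2, 1, 3, 4, 5, 6, 0, 2, 3, 4, 5, 1, 3, 4, 2, 3, 0, 2, 1,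 3, 4, 5, 6, 7],
  [4, 5, 6, 7, 5, 4, 3, 2, 1, 3, 4, 5, 6, 0, 2, 3, 4, 5, 1, 3, 4, 2, 3, 0, 2, 1, 3, 4, 5, 6, 7], [3, 4, 5, 6, 7, 4, 3, 2, 1, 3, 4, 5, 6, 0, 2, 3, 4, 5, 1, 3, 4, 2, 3, 0, 2, 1, 3, 4, 5, 6, 7], [1, 3, 4, 5, 6, 7, 3, 2, 1, 3, 4, 5, 6, 0, 2, 3, 4, 5, 1, 3, 4, 2, 3, 0, 2, 1, 3, 4, 5, 6, 7], [2, 3, 4, 5, 6, 7, 3, 2, 1, 3, 4, 5, 6, 0, 2, 3, 4, 5, 1, 3, 4, 2, 3, 0, 2, 1, 3, 4, 5, 6, 7], [2, 1, 3, 4, 5, 6, 7, 2, 1, 3, 4, 5, 6, 0, 2, 3, 4, 5, 1, 3, 4, 2, 3, 0, 2, 1, 3, 4, 5, 6, 7], [0, 2, 3, 4, 5, 6, 7, 2, 1, 3, 4, 5, 6, 0, 2, 3, 4, 5, 1, 3, 4, 2, 3, 0, 2, 1, 3, 4, 5, 6, 7], [4, 5, 6, 7, 6, 5, 4, 3, 2, 1, 3, 4, 5, 6, 0, 2, 3, 4, 5, 1, 3, 4, 2, 3, 0, 2, 1, 3, 4, 5, 6, 7], [3, 4, 5, 6, 7, 5, 4, 3, 2, 1, 3, 4,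 5, 6, 0, 2, 3, 4, 5, 1, 3, 4, 2, 3, 0, 2, 1, 3, 4, 5, 6, 7],
  [1, 3, 4, 5, 6, 7, 4, 3, 2, 1, 3, 4, 5, 6, 0, 2, 3, 4, 5, 1, 3, 4, 2, 3, 0, 2, 1, 3, 4, 5, 6, 7], [2, 3, 4, 5, 6, 7, 4, 3, 2, 1, 3, 4, 5, 6, 0, 2, 3, 4, 5, 1, 3, 4, 2, 3, 0, 2, 1, 3, 4, 5, 6, 7], [2, 1, 3, 4, 5, 6, 7, 3, 2, 1, 3, 4, 5, 6, 0, 2, 3, 4, 5, 1, 3, 4, 2, 3, 0, 2, 1, 3, 4, 5, 6, 7], [0, 2, 3, 4, 5, 6, 7, 3, 2, 1, 3, 4, 5, 6, 0, 2, 3, 4, 5, 1, 3, 4, 2, 3, 0, 2, 1, 3, 4, 5, 6, 7], [0, 2, 1, 3, 4, 5, 6, 7, 2, 1, 3, 4, 5, 6, 0, 2, 3, 4, 5, 1, 3, 4, 2, 3, 0, 2, 1, 3, 4, 5, 6, 7], [3, 4, 5, 6, 7, 6, 5, 4, 3, 2, 1, 3, 4, 5, 6, 0, 2, 3, 4, 5, 1, 3, 4, 2, 3, 0, 2, 1, 3, 4, 5, 6, 7], [1, 3, 4, 5, 6, 7, 5, 4, 3, 2, 1, 3, 4, 5, 6, 0, 2, 3, 4, 5, 1, 3, 4,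 2, 3, 0, 2, 1, 3, 4, 5, 6, 7], [2, 3, 4, 5, 6, 7, 5, 4, 3, 2, 1, 3, 4, 5, 6, 0, 2, 3, 4, 5, 1, 3, 4, 2, 3, 0, 2, 1, 3, 4, 5, 6, 7],
  [2, 1, 3, 4, 5, 6, 7, 4, 3, 2, 1, 3, 4, 5, 6, 0, 2, 3, 4, 5, 1, 3, 4, 2, 3, 0, 2, 1, 3, 4, 5, 6, 7], [0, 2, 3, 4, 5, 6, 7, 4, 3, 2, 1, 3, 4, 5, 6, 0, 2, 3, 4, 5, 1, 3, 4, 2, 3, 0, 2, 1, 3, 4, 5, 6, 7], [0, 2, 1, 3, 4, 5, 6, 7, 3, 2, 1, 3, 4, 5, 6, 0, 2, 3, 4, 5, 1, 3, 4, 2, 3, 0, 2, 1, 3, 4, 5, 6, 7], [3, 2, 1, 3, 4, 5, 6, 7, 3, 2, 1, 3, 4, 5, 6, 0, 2, 3, 4, 5, 1, 3, 4, 2, 3, 0, 2, 1, 3, 4, 5, 6, 7], [1, 3, 4, 5, 6, 7, 6, 5, 4, 3, 2, 1, 3, 4, 5, 6, 0, 2, 3, 4, 5, 1, 3, 4, 2, 3, 0, 2, 1, 3, 4, 5, 6, 7], [2, 3, 4, 5, 6, 7, 6, 5, 4, 3, 2, 1, 3, 4, 5, 6, 0, 2, 3, 4, 5, 1, 3, 4, 2, 3, 0,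 2, 1, 3, 4, 5, 6, 7], [2, 1, 3, 4, 5, 6, 7, 5, 4, 3, 2, 1, 3, 4, 5, 6, 0, 2, 3, 4, 5, 1, 3, 4, 2, 3, 0, 2, 1, 3, 4, 5, 6, 7], [0, 2, 3, 4, 5, 6, 7, 5, 4, 3, 2, 1, 3, 4, 5, 6, 0, 2, 3, 4, 5, 1, 3, 4, 2, 3, 0, 2, 1, 3, 4, 5, 6, 7],
  [0, 2, 1, 3, 4, 5, 6, 7, 4, 3, 2, 1, 3, 4, 5, 6, 0, 2, 3, 4, 5, 1, 3, 4, 2, 3, 0, 2, 1, 3, 4, 5, 6, 7], [3, 2, 1, 3, 4, 5, 6, 7, 4, 3, 2, 1, 3, 4, 5, 6, 0, 2, 3, 4, 5, 1, 3, 4, 2, 3, 0, 2, 1, 3, 4, 5, 6, 7], [3, 0, 2, 1, 3, 4, 5, 6, 7, 3, 2, 1, 3, 4, 5, 6, 0, 2, 3, 4, 5, 1, 3, 4, 2, 3, 0, 2, 1, 3, 4, 5, 6, 7], [2, 1, 3, 4, 5, 6, 7, 6, 5, 4, 3, 2, 1, 3, 4, 5, 6, 0, 2, 3, 4, 5, 1, 3, 4, 2, 3, 0, 2, 1, 3, 4, 5, 6, 7], [0, 2, 3, 4, 5, 6, 7, 6, 5, 4, 3, 2, 1, 3, 4, 5, 6, 0, 2, 3, 4, 5, 1, 3,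 4, 2, 3, 0, 2, 1, 3, 4, 5, 6, 7], [0, 2, 1, 3, 4, 5, 6, 7, 5, 4, 3, 2, 1, 3, 4, 5, 6, 0, 2, 3, 4, 5, 1, 3, 4, 2, 3, 0, 2, 1, 3, 4, 5, 6, 7], [3, 2, 1, 3, 4, 5, 6, 7, 5, 4, 3, 2, 1, 3, 4, 5, 6, 0, 2, 3, 4, 5, 1, 3, 4, 2, 3, 0, 2, 1, 3, 4, 5, 6, 7], [3, 0, 2, 1, 3, 4, 5, 6, 7, 4, 3, 2, 1, 3, 4, 5, 6, 0, 2, 3, 4, 5, 1, 3, 4, 2, 3, 0, 2, 1, 3, 4, 5, 6, 7],
  [4, 3, 2, 1, 3, 4, 5, 6, 7, 4, 3, 2, 1, 3, 4, 5, 6, 0, 2, 3, 4, 5, 1, 3, 4, 2, 3, 0, 2, 1, 3, 4, 5, 6, 7], [2, 3, 0, 2, 1, 3, 4, 5, 6, 7, 3, 2, 1, 3, 4, 5, 6, 0, 2, 3, 4, 5, 1, 3, 4, 2, 3, 0, 2, 1, 3, 4, 5, 6, 7], [0, 2, 1, 3, 4, 5, 6, 7, 6, 5, 4, 3, 2, 1, 3, 4, 5, 6, 0, 2, 3, 4, 5, 1, 3, 4, 2, 3, 0, 2, 1, 3, 4, 5, 6, 7], [3, 2, 1, 3, 4, 5, 6, 7, 6, 5, 4, 3, 2, 1,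 3, 4, 5, 6, 0, 2, 3, 4, 5, 1, 3, 4, 2, 3, 0, 2, 1, 3, 4, 5, 6, 7], [3, 0, 2, 1, 3, 4, 5, 6, 7, 5, 4, 3, 2, 1, 3, 4, 5, 6, 0, 2, 3, 4, 5, 1, 3, 4, 2, 3, 0, 2, 1, 3, 4, 5, 6, 7], [4, 3, 2, 1, 3, 4, 5, 6, 7, 5, 4, 3, 2, 1, 3, 4, 5, 6, 0, 2, 3, 4, 5, 1, 3, 4, 2, 3, 0, 2, 1, 3, 4, 5, 6, 7], [2, 3, 0, 2, 1, 3, 4, 5, 6, 7, 4, 3, 2, 1, 3, 4, 5, 6, 0, 2, 3, 4, 5, 1, 3, 4, 2, 3, 0, 2, 1, 3, 4, 5, 6, 7], [4, 3, 0, 2, 1, 3, 4, 5, 6, 7, 4, 3, 2, 1, 3, 4, 5, 6, 0, 2, 3, 4, 5, 1, 3, 4, 2, 3, 0, 2, 1, 3, 4, 5, 6, 7],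
  [3, 0, 2, 1, 3, 4, 5, 6, 7, 6, 5, 4, 3, 2, 1, 3, 4, 5, 6, 0, 2, 3, 4, 5, 1, 3, 4, 2, 3, 0, 2, 1, 3, 4, 5, 6, 7], [4, 3, 2, 1, 3, 4, 5, 6, 7, 6, 5, 4, 3, 2, 1, 3, 4, 5, 6, 0, 2, 3, 4, 5, 1, 3, 4, 2, 3, 0, 2, 1, 3, 4, 5, 6, 7], [2, 3, 0, 2, 1, 3, 4, 5, 6, 7, 5, 4, 3, 2, 1, 3, 4, 5, 6, 0, 2, 3, 4, 5, 1, 3, 4, 2, 3, 0, 2, 1, 3, 4, 5, 6, 7], [4, 3, 0, 2, 1, 3, 4, 5, 6, 7, 5, 4, 3, 2, 1, 3, 4, 5, 6, 0, 2, 3, 4, 5, 1, 3, 4, 2, 3, 0, 2, 1, 3, 4, 5, 6, 7], [5, 4, 3, 2, 1, 3, 4, 5, 6, 7, 5, 4, 3, 2, 1, 3, 4, 5, 6, 0, 2, 3, 4, 5, 1, 3, 4, 2, 3, 0, 2, 1, 3, 4, 5, 6, 7], [4, 2, 3, 0, 2, 1, 3, 4, 5, 6, 7, 4, 3, 2, 1, 3, 4, 5, 6, 0, 2, 3, 4, 5, 1, 3, 4, 2, 3, 0, 2, 1, 3, 4, 5, 6, 7], [2, 3, 0, 2, 1, 3, 4, 5, 6, 7, 6, 5, 4, 3,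 2, 1, 3, 4, 5, 6, 0, 2, 3, 4, 5, 1, 3, 4, 2, 3, 0, 2, 1, 3, 4, 5, 6, 7], [4, 3, 0, 2, 1, 3, 4, 5, 6, 7, 6, 5, 4, 3, 2, 1, 3, 4, 5, 6, 0, 2, 3, 4, 5, 1, 3, 4, 2, 3, 0, 2, 1, 3, 4, 5, 6, 7],
  [5, 4, 3, 2, 1, 3, 4, 5, 6, 7, 6, 5, 4, 3, 2, 1, 3, 4, 5, 6, 0, 2, 3, 4, 5, 1, 3, 4, 2, 3, 0, 2, 1, 3, 4, 5, 6, 7], [4, 2, 3, 0, 2, 1, 3, 4, 5, 6, 7, 5, 4, 3, 2, 1, 3, 4, 5, 6, 0, 2, 3, 4, 5, 1, 3, 4, 2, 3, 0, 2, 1, 3, 4, 5, 6, 7], [5, 4, 3, 0, 2, 1, 3, 4, 5, 6, 7, 5, 4, 3, 2, 1, 3, 4, 5, 6, 0, 2, 3, 4, 5, 1, 3, 4, 2, 3, 0, 2, 1, 3, 4, 5, 6, 7], [3, 4, 2, 3, 0, 2, 1, 3, 4, 5, 6, 7, 4, 3, 2, 1, 3, 4, 5, 6, 0, 2, 3, 4, 5, 1, 3, 4, 2, 3, 0, 2, 1, 3, 4, 5, 6, 7], [4, 2, 3, 0, 2, 1, 3, 4, 5, 6, 7, 6, 5, 4, 3, 2, 1, 3, 4, 5, 6, 0, 2,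 3, 4, 5, 1, 3, 4, 2, 3, 0, 2, 1, 3, 4, 5, 6, 7], [5, 4, 3, 0, 2, 1, 3, 4, 5, 6, 7, 6, 5, 4, 3, 2, 1, 3, 4, 5, 6, 0, 2, 3, 4, 5, 1, 3, 4, 2, 3, 0, 2, 1, 3, 4, 5, 6, 7], [6, 5, 4, 3, 2, 1, 3, 4, 5, 6, 7, 6, 5, 4, 3, 2, 1, 3, 4, 5, 6, 0, 2, 3, 4, 5, 1, 3, 4, 2, 3, 0, 2, 1, 3, 4, 5, 6, 7], [3, 4, 2, 3, 0, 2, 1, 3, 4, 5, 6, 7, 5, 4, 3, 2, 1, 3, 4, 5, 6, 0, 2, 3, 4, 5, 1, 3, 4, 2, 3, 0, 2, 1, 3, 4, 5, 6, 7],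
  [5, 4, 2, 3, 0, 2, 1, 3, 4, 5, 6, 7, 5, 4, 3, 2, 1, 3, 4, 5, 6, 0, 2, 3, 4, 5, 1, 3, 4, 2, 3, 0, 2, 1, 3, 4, 5, 6, 7], [1, 3, 4, 2, 3, 0, 2, 1, 3, 4, 5, 6, 7, 4, 3, 2, 1, 3, 4, 5, 6, 0, 2, 3, 4, 5, 1, 3, 4, 2, 3, 0, 2, 1, 3, 4, 5, 6, 7], [3, 4, 2, 3, 0, 2, 1, 3, 4, 5, 6, 7, 6, 5, 4, 3, 2, 1, 3, 4, 5, 6, 0, 2, 3, 4, 5, 1, 3, 4, 2, 3, 0, 2, 1, 3, 4, 5, 6, 7], [5, 4, 2, 3, 0, 2, 1, 3, 4, 5, 6, 7, 6, 5, 4, 3, 2, 1, 3, 4, 5, 6, 0, 2, 3, 4, 5, 1, 3, 4, 2, 3, 0, 2, 1, 3, 4, 5, 6, 7], [6, 5, 4, 3, 0, 2, 1, 3, 4, 5, 6, 7, 6, 5, 4, 3, 2, 1, 3, 4, 5, 6, 0, 2, 3, 4, 5, 1, 3, 4, 2, 3, 0, 2, 1, 3, 4, 5, 6, 7], [1, 3, 4, 2, 3, 0, 2, 1, 3, 4, 5, 6, 7, 5, 4, 3, 2, 1, 3, 4, 5, 6, 0, 2, 3, 4, 5, 1, 3, 4, 2, 3, 0, 2, 1, 3, 4, 5, 6,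 7], [5, 3, 4, 2, 3, 0, 2, 1, 3, 4, 5, 6, 7, 5, 4, 3, 2, 1, 3, 4, 5, 6, 0, 2, 3, 4, 5, 1, 3, 4, 2, 3, 0, 2, 1, 3, 4, 5, 6, 7], [1, 3, 4, 2, 3, 0, 2, 1, 3, 4, 5, 6, 7, 6, 5, 4, 3, 2, 1, 3, 4, 5, 6, 0, 2, 3, 4, 5, 1, 3, 4, 2, 3, 0, 2, 1, 3, 4, 5, 6, 7],
  [5, 3, 4, 2, 3, 0, 2, 1, 3, 4, 5, 6, 7, 6, 5, 4, 3, 2, 1, 3, 4, 5, 6, 0, 2, 3, 4, 5, 1, 3, 4, 2, 3, 0, 2, 1, 3, 4, 5, 6, 7], [6, 5, 4, 2, 3, 0, 2, 1, 3, 4, 5, 6, 7, 6, 5, 4, 3, 2, 1, 3, 4, 5, 6, 0, 2, 3, 4, 5, 1, 3, 4, 2, 3, 0, 2, 1, 3, 4, 5, 6, 7], [5, 1, 3, 4, 2, 3, 0, 2, 1, 3, 4, 5, 6, 7, 5, 4, 3, 2, 1, 3, 4, 5, 6, 0, 2, 3, 4, 5, 1, 3, 4, 2, 3, 0, 2, 1, 3, 4, 5, 6, 7], [4, 5, 3, 4, 2, 3, 0, 2, 1, 3, 4, 5, 6, 7, 5, 4, 3, 2, 1, 3, 4, 5, 6, 0, 2, 3, 4, 5, 1, 3, 4, 2,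 3, 0, 2, 1, 3, 4, 5, 6, 7], [5, 1, 3, 4, 2, 3, 0, 2, 1, 3, 4, 5, 6, 7, 6, 5, 4, 3, 2, 1, 3, 4, 5, 6, 0, 2, 3, 4, 5, 1, 3, 4, 2, 3, 0, 2, 1, 3, 4, 5, 6, 7], [4, 5, 3, 4, 2, 3, 0, 2, 1, 3, 4, 5, 6, 7, 6, 5, 4, 3, 2, 1, 3, 4, 5, 6, 0, 2, 3, 4, 5, 1, 3, 4, 2, 3, 0, 2, 1, 3, 4, 5, 6, 7], [6, 5, 3, 4, 2, 3, 0, 2, 1, 3, 4, 5, 6, 7, 6, 5, 4, 3, 2, 1, 3, 4, 5, 6, 0, 2, 3, 4, 5, 1, 3, 4, 2, 3, 0, 2, 1, 3, 4, 5, 6, 7], [4, 5, 1, 3, 4, 2, 3, 0, 2, 1, 3, 4, 5, 6, 7, 5, 4, 3, 2, 1, 3, 4, 5, 6, 0, 2, 3, 4, 5, 1, 3, 4, 2, 3, 0, 2, 1, 3, 4, 5, 6, 7],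
  [4, 5, 1, 3, 4, 2, 3, 0, 2, 1, 3, 4, 5, 6, 7, 6, 5, 4, 3, 2, 1, 3, 4, 5, 6, 0, 2, 3, 4, 5, 1, 3, 4, 2, 3, 0, 2, 1, 3, 4, 5, 6, 7], [6, 5, 1, 3, 4, 2, 3, 0, 2, 1, 3, 4, 5, 6, 7, 6, 5, 4, 3, 2, 1, 3, 4, 5, 6, 0, 2, 3, 4, 5, 1, 3, 4, 2, 3, 0, 2, 1, 3, 4, 5, 6, 7], [6, 4, 5, 3, 4, 2, 3, 0, 2, 1, 3, 4, 5, 6, 7, 6, 5, 4, 3, 2, 1, 3, 4, 5, 6, 0, 2, 3, 4, 5, 1, 3, 4, 2, 3, 0, 2, 1, 3, 4, 5, 6, 7], [3, 4, 5, 1, 3, 4, 2, 3, 0, 2, 1, 3, 4, 5, 6, 7, 5, 4, 3, 2, 1, 3, 4, 5, 6, 0, 2, 3, 4, 5, 1, 3, 4, 2, 3, 0, 2, 1, 3, 4, 5, 6, 7], [3, 4, 5, 1, 3, 4, 2, 3, 0, 2, 1, 3, 4, 5, 6, 7, 6, 5, 4, 3, 2, 1, 3, 4, 5, 6, 0, 2, 3, 4, 5, 1, 3, 4, 2, 3, 0, 2, 1, 3, 4, 5, 6, 7], [6, 4, 5, 1, 3, 4, 2, 3, 0, 2, 1, 3, 4, 5, 6, 7, 6, 5, 4, 3, 2,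 1, 3, 4, 5, 6, 0, 2, 3, 4, 5, 1, 3, 4, 2, 3, 0, 2, 1, 3, 4, 5, 6, 7], [5, 6, 4, 5, 3, 4, 2, 3, 0, 2, 1, 3, 4, 5, 6, 7, 6, 5, 4, 3, 2, 1, 3, 4, 5, 6, 0, 2, 3, 4, 5, 1, 3, 4, 2, 3, 0, 2, 1, 3, 4, 5, 6, 7], [2, 3, 4, 5, 1, 3, 4, 2, 3, 0, 2, 1, 3, 4, 5, 6, 7, 5, 4, 3, 2, 1, 3, 4, 5, 6, 0, 2, 3, 4, 5, 1, 3, 4, 2, 3, 0, 2, 1, 3, 4, 5, 6, 7],
  [2, 3, 4, 5, 1, 3, 4, 2, 3, 0, 2, 1, 3, 4, 5, 6, 7, 6, 5, 4, 3, 2, 1, 3, 4, 5, 6, 0, 2, 3, 4, 5, 1, 3, 4, 2, 3, 0, 2, 1, 3, 4, 5, 6, 7], [6, 3, 4, 5, 1, 3, 4, 2, 3, 0, 2, 1, 3, 4, 5, 6, 7, 6, 5, 4, 3, 2, 1, 3, 4, 5, 6, 0, 2, 3, 4, 5, 1, 3, 4, 2, 3, 0, 2, 1, 3, 4, 5, 6, 7], [5, 6, 4, 5, 1, 3, 4, 2, 3, 0, 2, 1, 3, 4, 5, 6, 7, 6, 5, 4, 3, 2, 1, 3, 4, 5, 6, 0, 2, 3, 4, 5, 1, 3, 4, 2,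 3, 0, 2, 1, 3, 4, 5, 6, 7], [0, 2, 3, 4, 5, 1, 3, 4, 2, 3, 0, 2, 1, 3, 4, 5, 6, 7, 5, 4, 3, 2, 1, 3, 4, 5, 6, 0, 2, 3, 4, 5, 1, 3, 4, 2, 3, 0, 2, 1, 3, 4, 5, 6, 7], [0, 2, 3, 4, 5, 1, 3, 4, 2, 3, 0, 2, 1, 3, 4, 5, 6, 7, 6, 5, 4, 3, 2, 1, 3, 4, 5, 6, 0, 2, 3, 4, 5, 1, 3, 4, 2, 3, 0, 2, 1, 3, 4, 5, 6, 7], [6, 2, 3, 4, 5, 1, 3, 4, 2, 3, 0, 2, 1, 3, 4, 5, 6, 7, 6, 5, 4, 3, 2, 1, 3, 4, 5, 6, 0, 2, 3, 4, 5, 1, 3, 4, 2, 3, 0, 2, 1, 3, 4, 5, 6, 7], [5, 6, 3, 4, 5, 1, 3, 4, 2, 3, 0, 2, 1, 3, 4, 5, 6, 7, 6, 5, 4, 3, 2, 1, 3, 4, 5, 6, 0, 2, 3, 4, 5, 1, 3, 4, 2, 3, 0, 2, 1, 3, 4, 5, 6, 7], [6, 0, 2, 3, 4, 5, 1, 3, 4, 2, 3, 0, 2, 1, 3, 4, 5, 6, 7, 6, 5, 4, 3, 2, 1, 3, 4, 5, 6, 0, 2, 3, 4, 5, 1, 3, 4, 2, 3, 0, 2, 1, 3, 4, 5, 6,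 7],
  [5, 6, 2, 3, 4, 5, 1, 3, 4, 2, 3, 0, 2, 1, 3, 4, 5, 6, 7, 6, 5, 4, 3, 2, 1, 3, 4, 5, 6, 0, 2, 3, 4, 5, 1, 3, 4, 2, 3, 0, 2, 1, 3, 4, 5, 6, 7], [4, 5, 6, 3, 4, 5, 1, 3, 4, 2, 3, 0, 2, 1, 3, 4, 5, 6, 7, 6, 5, 4, 3, 2, 1, 3, 4, 5, 6, 0, 2, 3, 4, 5, 1, 3, 4, 2, 3, 0, 2, 1, 3, 4, 5, 6, 7], [5, 6, 0, 2, 3, 4, 5, 1, 3, 4, 2, 3, 0, 2, 1, 3, 4, 5, 6, 7, 6, 5, 4, 3, 2, 1, 3, 4, 5, 6, 0, 2, 3, 4, 5, 1, 3, 4, 2, 3, 0, 2, 1, 3, 4, 5, 6, 7], [4, 5, 6, 2, 3, 4, 5, 1, 3, 4, 2, 3, 0, 2, 1, 3, 4, 5, 6, 7, 6, 5, 4, 3, 2, 1, 3, 4, 5, 6, 0, 2, 3, 4, 5, 1, 3, 4, 2, 3, 0, 2, 1, 3, 4, 5, 6, 7], [4, 5, 6, 0, 2, 3, 4, 5, 1, 3, 4, 2, 3, 0, 2, 1, 3, 4, 5, 6, 7, 6, 5, 4, 3, 2, 1, 3, 4, 5, 6, 0, 2, 3, 4, 5, 1, 3, 4, 2, 3, 0, 2, 1, 3, 4,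 5, 6, 7], [3, 4, 5, 6, 2, 3, 4, 5, 1, 3, 4, 2, 3, 0, 2, 1, 3, 4, 5, 6, 7, 6, 5, 4, 3, 2, 1, 3, 4, 5, 6, 0, 2, 3, 4, 5, 1, 3, 4, 2, 3, 0, 2, 1, 3, 4, 5, 6, 7], [3, 4, 5, 6, 0, 2, 3, 4, 5, 1, 3, 4, 2, 3, 0, 2, 1, 3, 4, 5, 6, 7, 6, 5, 4, 3, 2, 1, 3, 4, 5, 6, 0, 2, 3, 4, 5, 1, 3, 4, 2, 3, 0, 2, 1, 3, 4, 5, 6, 7], [1, 3, 4, 5, 6, 2, 3, 4, 5, 1, 3, 4, 2, 3, 0, 2, 1, 3, 4, 5, 6, 7, 6, 5, 4, 3, 2, 1, 3, 4, 5, 6, 0, 2, 3, 4, 5, 1, 3, 4, 2, 3, 0, 2, 1, 3, 4, 5, 6, 7],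
  [1, 3, 4, 5, 6, 0, 2, 3, 4, 5, 1, 3, 4, 2, 3, 0, 2, 1, 3, 4, 5, 6, 7, 6, 5, 4, 3, 2, 1, 3, 4, 5, 6, 0, 2, 3, 4, 5, 1, 3, 4, 2, 3, 0, 2, 1, 3, 4, 5, 6, 7], [2, 3, 4, 5, 6, 0, 2, 3, 4, 5, 1, 3, 4, 2, 3, 0, 2, 1, 3, 4, 5, 6, 7, 6, 5, 4, 3, 2, 1, 3, 4, 5, 6, 0, 2, 3, 4, 5, 1, 3, 4, 2, 3, 0, 2, 1, 3, 4, 5, 6, 7], [2, 1, 3, 4, 5, 6, 0, 2, 3, 4, 5, 1, 3, 4, 2, 3, 0, 2, 1, 3, 4, 5, 6, 7, 6, 5, 4, 3, 2, 1, 3, 4, 5, 6, 0, 2, 3, 4, 5, 1, 3, 4, 2, 3, 0, 2, 1, 3, 4, 5, 6, 7], [3, 2, 1, 3, 4, 5, 6, 0, 2, 3, 4, 5, 1, 3, 4, 2, 3, 0, 2, 1, 3, 4, 5, 6, 7, 6, 5, 4, 3, 2, 1, 3, 4, 5, 6, 0, 2, 3, 4, 5, 1, 3, 4, 2, 3, 0, 2, 1, 3, 4, 5, 6, 7], [4, 3, 2, 1, 3, 4, 5, 6, 0, 2, 3, 4, 5, 1, 3, 4, 2, 3, 0, 2, 1, 3, 4, 5, 6, 7, 6, 5, 4, 3, 2,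 1, 3, 4, 5, 6, 0, 2, 3, 4, 5, 1, 3, 4, 2, 3, 0, 2, 1, 3, 4, 5, 6, 7], [5, 4, 3, 2, 1, 3, 4, 5, 6, 0, 2, 3, 4, 5, 1, 3, 4, 2, 3, 0, 2, 1, 3, 4, 5, 6, 7, 6, 5, 4, 3, 2, 1, 3, 4, 5, 6, 0, 2, 3, 4, 5, 1, 3, 4, 2, 3, 0, 2, 1, 3, 4, 5, 6, 7], [6, 5, 4, 3, 2, 1, 3, 4, 5, 6, 0, 2, 3, 4, 5, 1, 3, 4, 2, 3, 0, 2, 1, 3, 4, 5, 6, 7, 6, 5, 4, 3, 2, 1, 3, 4, 5, 6, 0, 2, 3, 4, 5, 1, 3, 4, 2, 3, 0, 2, 1, 3, 4, 5, 6, 7], [7, 6, 5, 4, 3, 2, 1, 3, 4, 5, 6, 0, 2, 3, 4, 5, 1, 3, 4, 2, 3, 0, 2, 1, 3, 4, 5, 6, 7, 6, 5, 4, 3, 2, 1, 3, 4, 5, 6, 0, 2, 3, 4, 5, 1, 3, 4, 2, 3, 0, 2, 1, 3, 4, 5, 6, 7]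
]

def table0 : List (List ℤ) := [
  [0, 0, 0, 0, 0, 0, 0, 1], [0, 0, 0, 0, 0, 0, 1, -1], [0, 0, 0, 0, 0, 1, -1, 0], [0, 0, 0, 0, 1, -1, 0, 0], [0, 0, 0, 1, -1, 0, 0, 0], [0, 1, 1, -1, 0, 0, 0, 0], [0, -1, 1, 0, 0, 0, 0, 0], [1, 1, -1, 0, 0, 0, 0, 0],
  [1, -1, -1, 1, 0, 0, 0, 0], [-1, 1, 0, 0, 0, 0, 0, 0], [-1, -1, 0, 1, 0, 0, 0, 0], [1, 0, 0, -1, 1, 0, 0, 0], [-1, 0, 1, -1, 1, 0, 0, 0], [1, 0, 0, 0, -1, 1, 0, 0], [0, 0, -1, 0, 1, 0, 0, 0], [-1, 0, 1, 0, -1, 1, 0, 0],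
  [1, 0, 0, 0, 0, -1, 1, 0], [0, 0, -1, 1, -1, 1, 0, 0], [-1, 0, 1, 0, 0, -1, 1, 0], [1, 0, 0, 0, 0, 0, -1, 1], [0, 1, 0, -1, 0, 1, 0, 0], [0, 0, -1, 1, 0, -1, 1, 0], [-1, 0, 1, 0, 0, 0, -1, 1], [1, 0, 0, 0, 0, 0, 0, -1],
  [0, -1, 0, 0, 0, 1, 0, 0], [0, 1, 0, -1, 1, -1, 1, 0], [0, 0, -1, 1, 0, 0, -1, 1], [-1, 0, 1, 0, 0, 0, 0, -1], [0, -1, 0, 0, 1, -1, 1, 0], [0, 1, 0, 0, -1, 0, 1, 0], [0, 1, 0, -1, 1, 0, -1, 1], [0, 0, -1, 1, 0, 0, 0, -1],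
  [0, -1, 0, 1, -1, 0, 1, 0], [0, -1, 0, 0, 1, 0, -1, 1], [0, 1, 0, 0, -1, 1, -1, 1], [0, 1, 0, -1, 1, 0, 0, -1], [0, 0, 1, -1, 0, 0, 1, 0], [0, -1, 0, 1, -1, 1, -1, 1], [0, -1, 0, 0, 1, 0, 0, -1], [0, 1, 0, 0, 0, -1, 0, 1],
  [0, 1, 0, 0, -1, 1, 0, -1], [1, 0, -1, 0, 0, 0, 1, 0], [0, 0, 1, -1, 0, 1, -1, 1], [0, -1, 0, 1, 0, -1, 0, 1], [0, -1, 0, 1, -1, 1, 0, -1], [0, 1, 0, 0, 0, -1, 1, -1], [-1, 0, 0, 0, 0, 0, 1, 0], [1, 0, -1, 0, 0, 1, -1, 1],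
  [0, 0, 1, -1, 1, -1, 0, 1], [0, 0, 1, -1, 0, 1, 0, -1], [0, -1, 0, 1, 0, -1, 1, -1], [0, 1, 0, 0, 0, 0, -1, 0], [-1, 0, 0, 0, 0, 1, -1, 1], [1, 0, -1, 0, 1, -1, 0, 1], [1, 0, -1, 0, 0, 1, 0, -1], [0, 0, 1, 0, -1, 0, 0, 1],
  [0, 0, 1, -1, 1, -1, 1, -1], [0, -1, 0, 1, 0, 0, -1, 0], [-1, 0, 0, 0, 1, -1, 0, 1], [-1, 0, 0, 0, 0, 1, 0, -1], [1, 0, -1, 1, -1, 0, 0, 1], [1, 0, -1, 0, 1, -1, 1, -1], [0, 0, 1, 0, -1, 0, 1, -1], [0, 0, 1, -1, 1, 0, -1, 0],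
  [-1, 0, 0, 1, -1, 0, 0, 1], [-1, 0, 0, 0, 1, -1, 1, -1], [1, 1, 0, -1, 0, 0, 0, 1], [1, 0, -1, 1, -1, 0, 1, -1], [1, 0, -1, 0, 1, 0, -1, 0], [0, 0, 1, 0, -1, 1, -1, 0], [-1, 1, 1, -1, 0, 0, 0, 1], [-1, 0, 0, 1, -1, 0, 1, -1],
  [-1, 0, 0, 0, 1, 0, -1, 0], [1, -1, 0, 0, 0, 0, 0, 1], [1, 1, 0, -1, 0, 0, 1, -1], [1, 0, -1, 1, -1, 1, -1, 0], [0, 0, 1, 0, 0, -1, 0, 0], [-1, -1, 1, 0, 0, 0, 0, 1], [0, 1, -1, 0, 0, 0, 0, 1], [-1, 1, 1, -1, 0, 0, 1, -1],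
  [-1, 0, 0, 1, -1, 1, -1, 0], [1, -1, 0, 0, 0, 0, 1, -1], [1, 1, 0, -1, 0, 1, -1, 0], [1, 0, -1, 1, 0, -1, 0, 0], [0, -1, -1, 1, 0, 0, 0, 1], [-1, -1, 1, 0, 0, 0, 1, -1], [0, 1, -1, 0, 0, 0, 1, -1], [-1, 1, 1, -1, 0, 1, -1, 0],
  [-1, 0, 0, 1, 0, -1, 0, 0], [1, -1, 0, 0, 0, 1, -1, 0], [1, 1, 0, -1, 1, -1, 0, 0], [0, 0, 0, -1, 1, 0, 0, 1], [0, -1, -1, 1, 0, 0, 1, -1], [-1, -1, 1, 0, 0, 1, -1, 0], [0, 1, -1, 0, 0, 1, -1, 0], [-1, 1, 1, -1, 1, -1, 0, 0],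
  [1, -1, 0, 0, 1, -1, 0, 0], [1, 1, 0, 0, -1, 0, 0, 0], [0, 0, 0, 0, -1, 1, 0, 1], [0, 0, 0, -1, 1, 0, 1, -1], [0, -1, -1, 1, 0, 1, -1, 0], [-1, -1, 1, 0, 1, -1, 0, 0], [0, 1, -1, 0, 1, -1, 0, 0], [-1, 1, 1, 0, -1, 0, 0, 0],
  [1, -1, 0, 1, -1, 0, 0, 0], [0, 0, 0, 0, 0, -1, 1, 1], [0, 0, 0, 0, -1, 1, 1, -1], [0, 0, 0, -1, 1, 1, -1, 0], [0, -1, -1, 1, 1, -1, 0, 0], [-1, -1, 1, 1, -1, 0, 0, 0], [0, 1, -1, 1, -1, 0, 0, 0], [1, 0, 1, -1, 0, 0, 0, 0],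
  [0, 0, 0, 0, 0, 0, -1, 2], [0, 0, 0, 0, 0, -1, 2, -1], [0, 0, 0, 0, -1, 2, -1, 0], [0, 0, 0, -1, 2, -1, 0, 0], [0, -1, -1, 2, -1, 0, 0, 0], [-1, 0, 2, -1, 0, 0, 0, 0], [0, 2, 0, -1, 0, 0, 0, 0], [2, 0, -1, 0, 0, 0, 0, 0],
  [0, 0, 0, 0, 0, 0, 1, -2], [0, 0, 0, 0, 0, 1, -2, 1], [0, 0, 0, 0, 1, -2, 1, 0], [0, 0, 0, 1, -2, 1, 0, 0], [0, 1, 1, -2, 1, 0, 0, 0], [1, 0, -2, 1, 0, 0, 0, 0], [0, -2, 0, 1, 0, 0, 0, 0], [-2, 0, 1, 0, 0, 0, 0, 0],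
  [0, 0, 0, 0, 0, 1, -1, -1], [0, 0, 0, 0, 1, -1, -1, 1], [0, 0, 0, 1, -1, -1, 1, 0], [0, 1, 1, -1, -1, 1, 0, 0], [0, -1, 1, -1, 1, 0, 0, 0], [1, 1, -1, -1, 1, 0, 0, 0], [-1, 0, -1, 1, 0, 0, 0, 0], [0, 0, 0, 0, 1, -1, 0, -1],
  [0, 0, 0, 1, -1, 0, -1, 1], [0, 1, 1, -1, 0, -1, 1, 0], [0, -1, 1, 0, -1, 1, 0, 0], [1, 1, -1, 0, -1, 1, 0, 0], [1, -1, -1, 0, 1, 0, 0, 0], [-1, 1, 0, -1, 1, 0, 0, 0], [0, 0, 0, 1, -1, 0, 0, -1], [0, 1, 1, -1, 0, 0, -1, 1],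
  [0, -1, 1, 0, 0, -1, 1, 0], [1, 1, -1, 0, 0, -1, 1, 0], [1, -1, -1, 1, -1, 1, 0, 0], [-1, 1, 0, 0, -1, 1, 0, 0], [-1, -1, 0, 0, 1, 0, 0, 0], [0, 1, 1, -1, 0, 0, 0, -1], [0, -1, 1, 0, 0, 0, -1, 1], [1, 1, -1, 0, 0, 0, -1, 1],
  [1, -1, -1, 1, 0, -1, 1, 0], [-1, 1, 0, 0, 0, -1, 1, 0], [-1, -1, 0, 1, -1, 1, 0, 0], [1, 0, 0, -1, 0, 1, 0, 0], [0, -1, 1, 0, 0, 0, 0, -1], [1, 1, -1, 0, 0, 0, 0, -1], [1, -1, -1, 1, 0, 0, -1, 1], [-1, 1, 0, 0, 0, 0, -1, 1],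
  [-1, -1, 0, 1, 0, -1, 1, 0], [1, 0, 0, -1, 1, -1, 1, 0], [-1, 0, 1, -1, 0, 1, 0, 0], [1, -1, -1, 1, 0, 0, 0, -1], [-1, 1, 0, 0, 0, 0, 0, -1], [-1, -1, 0, 1, 0, 0, -1, 1], [1, 0, 0, -1, 1, 0, -1, 1], [-1, 0, 1, -1, 1, -1, 1, 0],
  [1, 0, 0, 0, -1, 0, 1, 0], [0, 0, -1, 0, 0, 1, 0, 0], [-1, -1, 0, 1, 0, 0, 0, -1], [1, 0, 0, -1, 1, 0, 0, -1], [-1, 0, 1, -1, 1, 0, -1, 1], [1, 0, 0, 0, -1, 1, -1, 1], [0, 0, -1, 0, 1, -1, 1, 0], [-1, 0, 1, 0, -1, 0, 1, 0],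
  [-1, 0, 1, -1, 1, 0, 0, -1], [1, 0, 0, 0, -1, 1, 0, -1], [0, 0, -1, 0, 1, 0, -1, 1], [-1, 0, 1, 0, -1, 1, -1, 1], [1, 0, 0, 0, 0, -1, 0, 1], [0, 0, -1, 1, -1, 0, 1, 0], [0, 0, -1, 0, 1, 0, 0, -1], [-1, 0, 1, 0, -1, 1, 0, -1],
  [1, 0, 0, 0, 0, -1, 1, -1], [0, 0, -1, 1, -1, 1, -1, 1], [-1, 0, 1, 0, 0, -1, 0, 1], [0, 1, 0, -1, 0, 0, 1, 0], [0, 0, -1, 1, -1, 1, 0, -1], [-1, 0, 1, 0, 0, -1, 1, -1], [1, 0, 0, 0, 0, 0, -1, 0], [0, 1, 0, -1, 0, 1, -1, 1],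
  [0, 0, -1, 1, 0, -1, 0, 1], [0, -1, 0, 0, 0, 0, 1, 0], [0, 1, 0, -1, 0, 1, 0, -1], [0, 0, -1, 1, 0, -1, 1, -1], [-1, 0, 1, 0, 0, 0, -1, 0], [0, -1, 0, 0, 0, 1, -1, 1], [0, 1, 0, -1, 1, -1, 0, 1], [0, -1, 0, 0, 0, 1, 0, -1],
  [0, 1, 0, -1, 1, -1, 1, -1], [0, 0, -1, 1, 0, 0, -1, 0], [0, -1, 0, 0, 1, -1, 0, 1], [0, 1, 0, 0, -1, 0, 0, 1], [0, -1, 0, 0, 1, -1, 1, -1], [0, 1, 0, 0, -1, 0, 1, -1], [0, 1, 0, -1, 1, 0, -1, 0], [0, -1, 0, 1, -1, 0, 0, 1],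
  [0, -1, 0, 1, -1, 0, 1, -1], [0, -1, 0, 0, 1, 0, -1, 0], [0, 1, 0, 0, -1, 1, -1, 0], [0, 0, 1, -1, 0, 0, 0, 1], [0, 0, 1, -1, 0, 0, 1, -1], [0, -1, 0, 1, -1, 1, -1, 0], [0, 1, 0, 0, 0, -1, 0, 0], [1, 0, -1, 0, 0, 0, 0, 1],
  [1, 0, -1, 0, 0, 0, 1, -1], [0, 0, 1, -1, 0, 1, -1, 0], [0, -1, 0, 1, 0, -1, 0, 0], [-1, 0, 0, 0, 0, 0, 0, 1], [-1, 0, 0, 0, 0, 0, 1, -1], [1, 0, -1, 0, 0, 1, -1, 0], [0, 0, 1, -1, 1, -1, 0, 0], [-1, 0, 0, 0, 0, 1, -1, 0],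
  [1, 0, -1, 0, 1, -1, 0, 0], [0, 0, 1, 0, -1, 0, 0, 0], [-1, 0, 0, 0, 1, -1, 0, 0], [1, 0, -1, 1, -1, 0, 0, 0], [-1, 0, 0, 1, -1, 0, 0, 0], [1, 1, 0, -1, 0, 0, 0, 0], [-1, 1, 1, -1, 0, 0, 0, 0], [1, -1, 0, 0, 0, 0, 0, 0],
  [-1, -1, 1, 0, 0, 0, 0, 0], [0, 1, -1, 0, 0, 0, 0, 0], [0, -1, -1, 1, 0, 0, 0, 0], [0, 0, 0, -1, 1, 0, 0, 0], [0, 0, 0, 0, -1, 1, 0, 0], [0, 0, 0, 0, 0, -1, 1, 0], [0, 0, 0, 0, 0, 0, -1, 1], [0, 0, 0, 0, 0, 0, 0, -1]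
]

def nxt0 : List (List ℕ) := [
  [0, 1, 2, 3, 4, 5, 6, 9, 10, 7, 8, 12, 11, 15, 14, 13, 18, 17, 16, 22, 20, 21, 19, 27, 24, 25, 26, 23, 28, 29, 30, 31, 32, 33, 34, 35, 36, 37, 38, 39, 40, 46, 42, 43, 44, 45, 41, 52, 48, 49, 50, 51, 47, 58, 59, 55, 56, 57, 53, 54, 64, 65, 62, 63, 60, 61, 70, 71, 72, 69, 66, 67, 68, 77, 79, 80, 76, 73, 78, 74, 75, 85, 87, 88, 84, 81, 86, 82, 83, 93, 95, 91, 92, 89, 94, 90, 101, 103, 98, 99, 100, 96, 102, 97, 109, 105, 106, 107, 108, 104, 110, 117, 112, 113, 114, 115, 116, 111, 118, 127, 120, 121, 122, 123, 124, 134, 126, 119, 128, 129, 130, 131, 132, 141, 125, 135, 136, 137, 138, 147, 148, 133, 142, 143, 144, 153, 154, 139, 140, 149, 150, 159, 160, 145, 146, 162, 156, 164, 165, 151,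 152, 167, 155, 170, 157, 158, 172, 161, 175, 169, 163, 176, 166, 179, 174, 168, 171, 183, 178, 173, 186, 181, 182, 177, 189, 185, 180, 187, 188, 184, 196, 191, 192, 193, 194, 195, 190, 197, 198, 199, 200, 201, 202, 203, 204, 205, 206, 207, 208, 209, 210, 211, 212, 213, 214, 219, 220, 217, 218, 215, 216, 223, 222, 221, 226, 225, 224, 228, 227, 230, 229, 232, 231, 233, 234, 235, 236, 237, 238, 239], [0, 1, 2, 3, 4, 6, 5, 8, 7, 10, 9, 11, 12, 13, 14, 15, 16, 17, 18, 19, 24, 21, 22, 23, 20, 28, 26, 27, 25, 32, 33, 31, 29, 30, 37, 38, 36, 34, 35, 43, 44, 41, 42, 39, 40, 50, 46, 47, 48, 49, 45, 57, 52, 53, 54, 55, 56, 51, 58, 59, 60, 61, 62, 63, 64, 65, 73, 67, 68, 69, 77, 71, 72, 66, 81, 75, 76, 70, 84, 85, 80, 74, 89,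 83, 78, 79, 92, 93, 88, 82, 96, 91, 86, 87, 100, 101, 90, 104, 98, 99, 94, 95, 108, 109, 97, 105, 106, 107, 102, 103, 116, 111, 112, 113, 114, 115, 110, 117, 126, 119, 120, 121, 122, 123, 132, 125, 118, 127, 128, 129, 130, 138, 124, 140, 134, 135, 136, 144, 131, 146, 133, 148, 142, 150, 137, 152, 139, 154, 141, 156, 143, 158, 145, 160, 147, 155, 149, 163, 151, 165, 153, 161, 162, 157, 170, 159, 166, 167, 168, 169, 164, 171, 172, 173, 174, 175, 176, 177, 178, 179, 180, 181, 182, 183, 184, 185, 186, 193, 188, 189, 190, 197, 192, 187, 199, 195, 196, 191, 202, 194, 204, 201, 198, 207, 200, 208, 209, 203, 205, 206, 213, 211, 212, 210, 218, 215, 216, 217, 214, 219, 220, 221, 222, 223, 224, 225, 226, 227, 228, 231, 232,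 229, 230, 234, 233, 235, 236, 237, 238, 239], [0, 1, 2, 3, 4, 7, 8, 5, 6, 9, 10, 11, 14, 13, 12, 17, 16, 15, 21, 19, 20, 18, 26, 23, 24, 25, 22, 31, 28, 29, 30, 27, 32, 33, 34, 35, 41, 37, 38, 39, 40, 36, 47, 43, 44, 45, 46, 42, 53, 54, 50, 51, 52, 48, 49, 60, 61, 57, 58, 59, 55, 56, 67, 68, 64, 65, 66, 62, 63, 75, 78, 71, 72, 73, 74, 69, 83, 84, 70, 86, 80, 81, 82, 76, 77, 92, 79, 94, 88, 89, 90, 91, 85, 100, 87, 102, 96, 97, 98, 99, 93, 108, 95, 110, 104, 105, 106, 107, 101, 116, 103, 119, 112, 113, 114, 115, 109, 125, 118, 111, 120, 121, 122, 123, 133, 117, 126, 134, 128, 129, 130, 139, 140, 124, 127, 135, 136, 145, 146, 131, 132, 141, 142, 151, 152, 137, 138, 147, 148, 157, 158, 143, 144, 153, 154, 155, 163, 149,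 150, 159, 160, 161, 169, 156, 164, 165, 166, 174, 168, 162, 170, 171, 178, 173, 167, 181, 182, 177, 172, 185, 180, 175, 176, 188, 184, 179, 192, 187, 183, 195, 190, 191, 186, 193, 194, 189, 201, 197, 198, 199, 200, 196, 202, 203, 204, 205, 206, 207, 208, 209, 210, 215, 216, 213, 214, 211, 212, 221, 218, 219, 220, 217, 224, 223, 222, 227, 226, 225, 228, 229, 233, 231, 234, 230, 232, 235, 236, 237, 238, 239], [0, 1, 2, 3, 5, 4, 6, 7, 11, 9, 12, 8, 10, 13, 14, 15, 16, 20, 18, 19, 17, 25, 22, 23, 24, 21, 30, 27, 28, 29, 26, 35, 36, 33, 34, 31, 32, 42, 38, 39, 40, 41, 37, 48, 49, 45, 46, 47, 43, 44, 56, 51, 52, 53, 54, 55, 50, 63, 58, 59, 66, 61, 62, 57, 70, 65, 60, 74, 68, 69, 64, 79, 72, 73, 67, 82, 76, 77, 78, 71, 87,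 81, 75, 90, 91, 85, 86, 80, 95, 89, 83, 84, 99, 93, 94, 88, 96, 97, 98, 92, 107, 101, 102, 103, 111, 105, 106, 100, 115, 117, 118, 104, 112, 113, 114, 108, 124, 109, 110, 119, 120, 121, 122, 131, 116, 133, 132, 127, 128, 129, 137, 123, 126, 125, 141, 135, 143, 130, 138, 139, 140, 134, 149, 136, 144, 145, 155, 147, 148, 142, 150, 151, 161, 153, 162, 146, 156, 157, 166, 159, 167, 152, 154, 171, 164, 172, 158, 160, 168, 169, 176, 163, 165, 173, 174, 175, 170, 177, 178, 179, 180, 187, 182, 183, 184, 191, 186, 181, 194, 189, 190, 185, 198, 193, 188, 200, 196, 197, 192, 199, 195, 206, 202, 203, 204, 205, 201, 211, 212, 209, 210, 207, 208, 217, 214, 215, 216, 213, 222, 219, 220, 221, 218, 223, 224, 225, 226, 229, 230, 227,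 228, 231, 232, 233, 235, 234, 236, 237, 238, 239], [0, 1, 2, 4, 3, 5, 6, 7, 8, 9, 10, 13, 15, 11, 17, 12, 16, 14, 18, 19, 20, 21, 22, 23, 24, 29, 26, 27, 32, 25, 34, 31, 28, 37, 30, 40, 36, 33, 44, 39, 35, 41, 42, 43, 38, 45, 46, 47, 55, 49, 50, 51, 52, 60, 54, 48, 62, 57, 64, 59, 53, 67, 56, 69, 58, 71, 66, 61, 75, 63, 70, 65, 80, 73, 74, 68, 76, 77, 78, 79, 72, 81, 82, 83, 84, 85, 86, 87, 88, 89, 97, 98, 92, 93, 94, 103, 104, 90, 91, 106, 100, 109, 110, 95, 96, 105, 99, 114, 116, 101, 102, 111, 112, 113, 107, 123, 108, 117, 118, 119, 120, 121, 130, 115, 131, 125, 126, 127, 128, 136, 122, 124, 138, 139, 134, 142, 129, 137, 132, 133, 146, 147, 135, 143, 144, 145, 140, 141, 154, 149, 150, 151, 152, 153, 148, 155, 156,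 157, 158, 159, 160, 168, 162, 163, 164, 165, 173, 175, 161, 169, 170, 177, 179, 166, 181, 167, 183, 171, 185, 172, 180, 174, 188, 176, 184, 178, 186, 187, 182, 189, 190, 191, 192, 193, 194, 195, 196, 197, 203, 199, 205, 201, 207, 198, 208, 200, 210, 202, 204, 213, 206, 211, 212, 209, 214, 215, 216, 217, 218, 219, 220, 221, 225, 223, 227, 222, 228, 224, 226, 229, 230, 231, 232, 233, 234, 236, 235, 237, 238, 239], [0, 1, 3, 2, 4, 5, 6, 7, 8, 9, 10, 11, 12, 16, 14, 18, 13, 21, 15, 19, 25, 17, 22, 23, 28, 20, 26, 27, 24, 29, 30, 31, 32, 33, 39, 35, 36, 43, 38, 34, 45, 41, 48, 37, 50, 40, 46, 53, 42, 56, 44, 51, 58, 47, 61, 55, 49, 57, 52, 65, 60, 54, 62, 63, 64, 59, 66, 67, 68, 76, 70, 71, 72, 73, 74, 83, 69, 77, 78,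 79, 88, 81, 90, 75, 84, 85, 86, 95, 80, 96, 82, 91, 92, 101, 102, 87, 89, 97, 105, 99, 108, 93, 94, 103, 104, 98, 113, 115, 100, 109, 110, 111, 112, 106, 122, 107, 116, 117, 118, 119, 120, 129, 114, 130, 124, 125, 126, 127, 135, 121, 123, 137, 132, 133, 134, 128, 136, 131, 144, 145, 140, 141, 142, 143, 138, 139, 152, 153, 148, 149, 150, 151, 146, 147, 160, 161, 156, 157, 158, 159, 154, 155, 167, 163, 164, 165, 166, 162, 168, 174, 170, 171, 172, 180, 169, 175, 176, 184, 178, 186, 173, 181, 182, 189, 177, 192, 179, 187, 195, 183, 190, 198, 185, 193, 200, 188, 196, 202, 191, 204, 194, 201, 197, 203, 199, 205, 206, 207, 208, 209, 214, 211, 212, 218, 210, 215, 216, 222, 213, 219, 220, 224, 217, 226, 221, 225, 223, 227,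 228, 229, 230, 231, 232, 233, 234, 235, 237, 236, 238, 239], [0, 2, 1, 3, 4, 5, 6, 7, 8, 9, 10, 11, 12, 13, 14, 15, 19, 17, 22, 16, 20, 26, 18, 23, 24, 30, 21, 27, 33, 34, 25, 31, 37, 28, 29, 35, 42, 32, 38, 39, 40, 47, 36, 43, 44, 51, 52, 41, 48, 49, 57, 45, 46, 53, 54, 55, 63, 50, 58, 59, 60, 68, 69, 56, 64, 72, 66, 75, 61, 62, 70, 80, 65, 73, 82, 67, 76, 77, 78, 87, 71, 89, 74, 83, 84, 93, 94, 79, 88, 81, 90, 91, 100, 85, 86, 95, 96, 97, 98, 107, 92, 101, 102, 103, 104, 112, 114, 99, 108, 109, 110, 111, 105, 121, 106, 115, 116, 117, 118, 119, 128, 113, 129, 123, 124, 125, 126, 127, 120, 122, 136, 131, 132, 133, 134, 135, 130, 143, 138, 139, 140, 141, 142, 137, 150, 151, 146, 147, 148, 149, 144, 145, 158, 159, 154,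 155, 156, 157, 152, 153, 165, 166, 162, 163, 164, 160, 161, 172, 173, 169, 170, 171, 167, 168, 178, 179, 176, 177, 174, 175, 180, 185, 182, 183, 190, 181, 186, 191, 188, 196, 184, 187, 192, 197, 194, 201, 189, 193, 198, 199, 206, 195, 202, 203, 209, 210, 200, 207, 213, 204, 205, 211, 217, 208, 214, 215, 221, 212, 218, 219, 223, 216, 222, 220, 224, 225, 226, 227, 228, 229, 230, 231, 232, 233, 234, 235, 236, 238, 237, 239], [1, 0, 2, 3, 4, 5, 6, 7, 8, 9, 10, 11, 12, 13, 14, 15, 16, 17, 18, 23, 20, 21, 27, 19, 24, 25, 31, 22, 28, 29, 35, 26, 32, 38, 40, 30, 36, 44, 33, 45, 34, 41, 49, 50, 37, 39, 46, 54, 56, 42, 43, 51, 59, 61, 47, 62, 48, 57, 65, 52, 67, 53, 55, 63, 71, 58, 74, 60, 68, 69, 79, 64, 72, 81, 66, 75, 76,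 85, 86, 70, 80, 73, 82, 83, 92, 77, 78, 87, 88, 89, 90, 99, 84, 93, 94, 95, 96, 97, 106, 91, 100, 101, 102, 103, 104, 113, 98, 107, 108, 109, 110, 111, 120, 105, 114, 115, 116, 117, 118, 119, 112, 128, 122, 123, 124, 125, 126, 127, 121, 135, 130, 131, 132, 133, 134, 129, 142, 137, 138, 139, 140, 141, 136, 149, 144, 145, 146, 147, 148, 143, 156, 157, 152, 153, 154, 155, 150, 151, 163, 164, 160, 161, 162, 158, 159, 170, 171, 167, 168, 169, 165, 166, 176, 177, 174, 175, 172, 173, 182, 183, 184, 181, 178, 179, 180, 188, 189, 187, 185, 186, 190, 194, 195, 193, 191, 192, 196, 199, 200, 197, 198, 201, 204, 205, 202, 203, 206, 208, 207, 209, 210, 212, 211, 213, 214, 216, 215, 217, 218, 220, 219, 221, 222, 223, 224, 225, 226,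 227, 228, 229, 230, 231, 232, 233, 234, 235, 236, 237, 239, 238]
]

def ded0 : List (ℕ × ℕ × ℕ) := [
  (1, 0, 7), (1, 1, 7), (1, 2, 7), (1, 3, 7), (1, 4, 7), (1, 5, 7), (2, 0, 6), (2, 1, 6),
  (2, 2, 6), (2, 3, 6), (2, 4, 6), (2, 7, 6), (3, 0, 5), (3, 1, 5), (3, 2, 5), (3, 3, 5),
  (3, 6, 5), (3, 7, 5), (4, 0, 4), (4, 1, 4), (4, 2, 4), (4, 5, 4), (4, 6, 4), (4, 7, 4),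
  (5, 0, 3), (5, 4, 3), (5, 5, 3), (5, 6, 3), (5, 7, 3), (6, 0, 1), (6, 3, 1), (6, 4, 1),
  (6, 5, 1), (6, 6, 1), (6, 7, 1), (7, 1, 2), (7, 3, 2), (7, 4, 2), (7, 5, 2), (7, 6, 2),
  (7, 7, 2), (8, 4, 1), (8, 5, 1), (8, 6, 1), (8, 7, 1), (9, 1, 0), (9, 2, 0), (9, 3, 0),
  (9, 4, 0), (9, 5, 0), (9, 6, 0), (9, 7, 0), (10, 2, 0), (10, 4, 0), (10, 5, 0), (10, 6, 0),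
  (10, 7, 0), (11, 0, 3), (11, 1, 3), (11, 2, 3), (11, 5, 3), (11, 6, 3), (11, 7, 3), (12, 1, 0),
  (12, 5, 0), (12, 6, 0), (12, 7, 0), (13, 0, 4), (13, 1, 4), (13, 2, 4), (13, 3, 4), (13, 6, 4),
  (13, 7, 4), (14, 0, 2), (14, 1, 2), (14, 3, 2), (14, 5, 2), (14, 6, 2), (14, 7, 2), (15, 1, 0),
  (15, 2, 4), (15, 3, 0), (15, 6, 0), (15, 7, 0), (16, 0, 5), (16, 1, 5), (16, 2, 5), (16, 3, 5),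
  (16, 4, 5), (16, 7, 5), (17, 0, 2), (17, 1, 2), (17, 6, 2), (17, 7, 2), (18, 1, 0), (18, 2, 5),
  (18, 3, 0), (18, 4, 0), (18, 7, 0), (19, 0, 6), (19, 1, 6), (19, 2, 6), (19, 3, 6), (19, 4, 6),
  (19, 5, 6), (20, 0, 3), (20, 2, 3), (20, 4, 3), (20, 6, 3), (20, 7, 3), (21, 0, 2), (21, 1, 2),
  (21, 3, 5), (21, 4, 2), (21, 7, 2), (22, 1, 0), (22, 2, 6), (22, 3, 0), (22, 4, 0), (22, 5, 0),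
  (23, 0, 7), (23, 1, 7), (23, 2, 7), (23, 3, 7), (23, 4, 7), (23, 5, 7), (23, 6, 7), (24, 0, 1),
  (24, 2, 1), (24, 3, 1), (24, 4, 1), (24, 6, 1), (24, 7, 1), (25, 0, 3), (25, 1, 5), (25, 2, 3),
  (25, 7, 3), (26, 0, 2), (26, 1, 2), (26, 3, 6), (26, 4, 2), (26, 5, 2), (27, 1, 0), (27, 2, 7),
  (27, 3, 0), (27, 4, 0), (27, 5, 0), (27, 6, 0), (28, 0, 1), (28, 2, 1), (28, 3, 1), (28, 7, 1),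
  (29, 0, 4), (29, 1, 4), (29, 2, 4), (29, 3, 4), (29, 5, 4), (29, 7, 4), (30, 0, 3), (30, 1, 6),
  (30, 2, 3), (30, 4, 6), (30, 5, 3), (31, 0, 2), (31, 1, 2), (31, 3, 7), (31, 4, 2), (31, 5, 2),
  (31, 6, 2), (32, 0, 1), (32, 2, 1), (32, 5, 1), (32, 7, 1), (33, 0, 1), (33, 2, 1), (33, 3, 1),
  (33, 4, 6), (33, 5, 1), (34, 0, 4), (34, 1, 4), (34, 2, 4), (34, 3, 4), (35, 0, 3), (35, 1, 7),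
  (35, 2, 3), (35, 4, 7), (35, 5, 3), (35, 6, 3), (36, 0, 3), (36, 1, 3), (36, 4, 3), (36, 5, 3),
  (36, 7, 3), (37, 0, 1), (37, 2, 1), (37, 3, 6), (38, 0, 1), (38, 2, 1), (38, 3, 1), (38, 4, 7),
  (38, 5, 1), (38, 6, 1), (39, 0, 5), (39, 1, 5), (39, 2, 5), (39, 3, 5), (39, 4, 5), (39, 6, 5),
  (40, 0, 4), (40, 1, 4), (40, 2, 4), (40, 3, 4), (40, 5, 7), (40, 6, 4), (41, 1, 2), (41, 3, 2),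
  (41, 4, 2), (41, 5, 2), (41, 7, 2), (42, 0, 3), (42, 1, 3), (42, 2, 6), (42, 4, 3), (43, 0, 1),
  (43, 2, 1), (43, 3, 5), (43, 4, 1), (43, 6, 1), (44, 0, 1), (44, 2, 1), (44, 3, 7), (44, 5, 7),
  (44, 6, 1), (45, 0, 5), (45, 1, 5), (45, 2, 5), (45, 3, 5), (45, 4, 5), (46, 1, 0), (46, 2, 0),
  (46, 3, 0), (46, 4, 0), (46, 5, 0), (46, 7, 0), (47, 0, 6), (47, 1, 2), (47, 3, 2), (47, 4, 2),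
  (48, 0, 3), (48, 1, 3), (48, 2, 5), (48, 6, 3), (49, 0, 3), (49, 1, 3), (49, 2, 7), (49, 4, 3),
  (49, 5, 7), (49, 6, 3), (50, 0, 1), (50, 2, 1), (50, 3, 5), (50, 4, 1), (51, 0, 6), (51, 1, 6),
  (51, 2, 6), (51, 3, 6), (51, 4, 6), (51, 5, 6), (51, 7, 6), (52, 1, 0), (52, 2, 0), (52, 3, 0),
  (52, 4, 0), (53, 0, 5), (53, 1, 2), (53, 3, 2), (53, 6, 2), (54, 0, 7), (54, 1, 2), (54, 3, 2),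
  (54, 4, 2), (54, 5, 7), (54, 6, 2), (55, 0, 4), (55, 1, 4), (55, 2, 4), (55, 3, 4), (55, 5, 4),
  (55, 6, 4), (56, 0, 3), (56, 1, 3), (56, 2, 5), (56, 4, 7), (57, 0, 1), (57, 2, 1), (57, 3, 6),
  (57, 4, 1), (57, 5, 1), (57, 7, 1), (58, 1, 0), (58, 2, 0), (58, 3, 0), (58, 6, 0), (59, 1, 0),
  (59, 2, 0), (59, 3, 0), (59, 4, 0), (59, 5, 7), (59, 6, 0), (60, 0, 4), (60, 1, 2), (60, 5, 2),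
  (60, 6, 2), (61, 0, 5), (61, 1, 2), (61, 3, 2), (61, 4, 7), (62, 0, 4), (62, 1, 4), (62, 2, 4),
  (62, 3, 4), (62, 5, 4), (63, 0, 3), (63, 1, 3), (63, 2, 6), (63, 4, 6), (63, 5, 3), (63, 7, 3),
  (64, 1, 0), (64, 2, 0), (64, 5, 0), (64, 6, 0), (65, 1, 0), (65, 2, 0), (65, 3, 0), (65, 4, 7),
  (66, 0, 3), (66, 2, 3), (66, 4, 3), (66, 5, 3), (66, 6, 3), (67, 0, 4), (67, 1, 2), (67, 3, 7),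
  (67, 5, 2), (68, 0, 6), (68, 1, 2), (68, 3, 2), (68, 4, 6), (68, 5, 2), (68, 7, 2), (69, 0, 4),
  (69, 1, 4), (69, 2, 4), (69, 3, 4), (69, 7, 4), (70, 4, 0), (70, 5, 0), (70, 6, 0), (71, 1, 0),
  (71, 2, 0), (71, 3, 7), (71, 5, 0), (72, 1, 0), (72, 2, 0), (72, 3, 0), (72, 4, 6), (72, 5, 0),
  (72, 7, 0), (73, 0, 1), (73, 2, 1), (73, 3, 1), (73, 4, 1), (73, 5, 1), (73, 6, 1), (74, 0, 3),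
  (74, 1, 7), (74, 2, 3), (74, 4, 3), (74, 5, 3), (75, 0, 4), (75, 1, 2), (75, 3, 6), (75, 7, 2),
  (76, 0, 5), (76, 1, 5), (76, 2, 5), (76, 3, 5), (76, 4, 5), (76, 6, 5), (76, 7, 5), (77, 3, 0),
  (77, 4, 0), (77, 5, 0), (77, 6, 0), (78, 0, 2), (78, 1, 2), (78, 3, 2), (78, 4, 2), (78, 5, 2),
  (78, 6, 2), (79, 1, 7), (79, 2, 7), (79, 4, 0), (79, 5, 0), (80, 1, 0), (80, 2, 0), (80, 3, 6),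
  (80, 7, 0), (81, 0, 1), (81, 2, 1), (81, 3, 1), (81, 4, 1), (81, 5, 1), (82, 0, 3), (82, 1, 6),
  (82, 2, 3), (82, 4, 3), (82, 7, 3), (83, 0, 5), (83, 1, 2), (83, 3, 5), (83, 4, 2), (83, 6, 2),
  (83, 7, 2), (84, 0, 1), (84, 4, 1), (84, 5, 1), (84, 6, 1), (85, 2, 7), (85, 3, 0), (85, 4, 0),
  (85, 5, 0), (86, 0, 2), (86, 1, 2), (86, 3, 2), (86, 4, 2), (86, 5, 2), (87, 1, 6), (87, 2, 6),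
  (87, 4, 0), (87, 7, 0), (88, 1, 0), (88, 2, 0), (88, 3, 5), (88, 4, 0), (88, 6, 0), (88, 7, 0),
  (89, 0, 1), (89, 2, 1), (89, 3, 1), (89, 4, 1), (89, 7, 1), (90, 0, 3), (90, 1, 5), (90, 2, 3),
  (90, 6, 3), (90, 7, 3), (91, 0, 3), (91, 1, 3), (91, 2, 3), (91, 5, 3), (91, 6, 3), (92, 0, 1),
  (92, 3, 7), (92, 4, 1), (92, 5, 1), (93, 2, 6), (93, 3, 0), (93, 4, 0), (93, 7, 0), (94, 0, 2),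
  (94, 1, 2), (94, 3, 2), (94, 4, 2), (94, 7, 2), (95, 1, 5), (95, 2, 5), (95, 6, 0), (95, 7, 0),
  (96, 0, 1), (96, 2, 1), (96, 3, 1), (96, 6, 1), (96, 7, 1), (97, 0, 4), (97, 1, 4), (97, 2, 4),
  (97, 3, 4), (97, 5, 4), (97, 6, 4), (97, 7, 4), (98, 0, 4), (98, 1, 4), (98, 2, 4), (98, 3, 4),
  (98, 6, 4), (99, 0, 3), (99, 1, 3), (99, 2, 3), (99, 4, 7), (99, 5, 3), (100, 0, 1), (100, 3, 6),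
  (100, 4, 1), (100, 7, 1), (101, 2, 5), (101, 3, 0), (101, 6, 0), (101, 7, 0), (102, 0, 2), (102, 1, 2),
  (102, 3, 2), (102, 6, 2), (102, 7, 2), (103, 1, 4), (103, 2, 4), (103, 3, 0), (103, 5, 0), (103, 6, 0),
  (103, 7, 0), (104, 0, 1), (104, 2, 1), (104, 5, 1), (104, 6, 1), (104, 7, 1), (105, 0, 5), (105, 1, 5),
  (105, 2, 5), (105, 3, 5), (105, 4, 5), (106, 0, 4), (106, 1, 4), (106, 2, 4), (106, 3, 4), (106, 5, 7),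
  (107, 0, 3), (107, 1, 3), (107, 2, 3), (107, 4, 6), (107, 7, 3), (108, 0, 1), (108, 3, 5), (108, 6, 1),
  (108, 7, 1), (109, 2, 4), (109, 5, 0), (109, 6, 0), (109, 7, 0), (110, 0, 2), (110, 1, 2), (110, 5, 2),
  (110, 6, 2), (110, 7, 2), (111, 0, 3), (111, 1, 3), (111, 4, 3), (111, 5, 3), (111, 6, 3), (111, 7, 3),
  (112, 0, 6), (112, 1, 6), (112, 2, 6), (112, 3, 6), (112, 4, 6), (112, 5, 6), (113, 0, 5), (113, 1, 5),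
  (113, 2, 5), (113, 3, 5), (113, 4, 5), (114, 0, 4), (114, 1, 4), (114, 2, 4), (114, 3, 4), (114, 7, 4),
  (115, 0, 3), (115, 1, 3), (115, 2, 3), (115, 6, 3), (115, 7, 3), (116, 0, 1), (116, 5, 1), (116, 6, 1),
  (116, 7, 1), (117, 1, 0), (117, 4, 0), (117, 5, 0), (117, 6, 0), (117, 7, 0), (118, 0, 3), (118, 2, 3),
  (118, 4, 3), (118, 5, 3), (118, 6, 3), (118, 7, 3), (119, 1, 2), (119, 3, 2), (119, 4, 2), (119, 5, 2),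
  (119, 6, 2), (119, 7, 2), (120, 0, 7), (120, 1, 7), (120, 2, 7), (120, 3, 7), (120, 4, 7), (120, 5, 7),
  (121, 0, 6), (121, 1, 6), (121, 2, 6), (121, 3, 6), (121, 4, 6), (121, 7, 6), (122, 0, 5), (122, 1, 5),
  (122, 2, 5), (122, 3, 5), (122, 6, 5), (122, 7, 5), (123, 0, 4), (123, 1, 4), (123, 2, 4), (123, 5, 4),
  (123, 6, 4), (123, 7, 4), (124, 0, 3), (124, 4, 3), (124, 5, 3), (124, 6, 3), (124, 7, 3), (125, 1, 2),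
  (125, 3, 2), (125, 4, 2), (125, 5, 2), (125, 6, 2), (125, 7, 2), (126, 0, 1), (126, 2, 1), (126, 3, 1),
  (126, 4, 1), (126, 5, 1), (126, 6, 1), (126, 7, 1), (127, 1, 0), (127, 2, 0), (127, 3, 0), (127, 4, 0),
  (127, 5, 0), (127, 6, 0), (127, 7, 0), (128, 0, 6), (128, 1, 6), (128, 2, 6), (128, 3, 6), (128, 4, 6),
  (129, 0, 5), (129, 1, 5), (129, 2, 5), (129, 3, 5), (129, 7, 5), (130, 0, 4), (130, 1, 4), (130, 2, 4),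
  (130, 6, 4), (130, 7, 4), (131, 0, 3), (131, 5, 3), (131, 6, 3), (131, 7, 3), (132, 0, 1), (132, 4, 1),
  (132, 5, 1), (132, 6, 1), (132, 7, 1), (133, 1, 2), (133, 4, 2), (133, 5, 2), (133, 6, 2), (133, 7, 2),
  (134, 1, 0), (134, 3, 0), (134, 4, 0), (134, 5, 0), (134, 6, 0), (134, 7, 0), (135, 0, 5), (135, 1, 5),
  (135, 2, 5), (135, 3, 5), (135, 6, 5), (136, 0, 4), (136, 1, 4), (136, 2, 4), (136, 5, 4), (136, 7, 4),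
  (137, 0, 3), (137, 4, 3), (137, 6, 3), (137, 7, 3), (138, 0, 1), (138, 3, 1), (138, 5, 1), (138, 6, 1),
  (138, 7, 1), (139, 1, 2), (139, 3, 2), (139, 5, 2), (139, 6, 2), (139, 7, 2), (140, 3, 1), (140, 4, 1),
  (140, 5, 1), (140, 6, 1), (140, 7, 1), (141, 1, 0), (141, 2, 0), (141, 4, 0), (141, 5, 0), (141, 6, 0),
  (141, 7, 0), (142, 0, 4), (142, 1, 4), (142, 2, 4), (142, 5, 4), (142, 6, 4), (143, 0, 3), (143, 4, 3),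
  (143, 5, 3), (143, 7, 3), (144, 0, 1), (144, 3, 1), (144, 4, 1), (144, 6, 1), (144, 7, 1), (145, 1, 2),
  (145, 3, 2), (145, 4, 2), (145, 6, 2), (145, 7, 2), (146, 5, 1), (146, 6, 1), (146, 7, 1), (147, 1, 0),
  (147, 2, 0), (147, 3, 0), (147, 5, 0), (147, 6, 0), (147, 7, 0), (148, 2, 0), (148, 3, 0), (148, 4, 0),
  (148, 5, 0), (148, 6, 0), (148, 7, 0), (149, 0, 3), (149, 4, 3), (149, 5, 3), (149, 6, 3), (150, 0, 1),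
  (150, 3, 1), (150, 4, 1), (150, 5, 1), (150, 7, 1), (151, 1, 2), (151, 3, 2), (151, 4, 2), (151, 5, 2),
  (151, 7, 2), (152, 4, 1), (152, 6, 1), (152, 7, 1), (153, 1, 0), (153, 2, 0), (153, 3, 0), (153, 4, 0),
  (153, 6, 0), (153, 7, 0), (154, 2, 0), (154, 5, 0), (154, 6, 0), (154, 7, 0), (155, 0, 3), (155, 1, 3),
  (155, 2, 3), (155, 4, 3), (155, 5, 3), (155, 6, 3), (155, 7, 3), (156, 0, 1), (156, 3, 1), (156, 4, 1),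
  (156, 5, 1), (156, 6, 1), (157, 1, 2), (157, 3, 2), (157, 4, 2), (157, 5, 2), (157, 6, 2), (158, 4, 1),
  (158, 5, 1), (158, 7, 1), (159, 1, 0), (159, 2, 0), (159, 3, 0), (159, 4, 0), (159, 5, 0), (159, 7, 0),
  (160, 2, 0), (160, 4, 0), (160, 6, 0), (160, 7, 0), (161, 0, 3), (161, 1, 3), (161, 2, 3), (161, 6, 3),
  (161, 7, 3), (162, 1, 0), (162, 4, 0), (162, 5, 0), (162, 6, 0), (162, 7, 0), (163, 4, 1), (163, 5, 1),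
  (163, 6, 1), (164, 1, 0), (164, 2, 0), (164, 3, 0), (164, 4, 0), (164, 5, 0), (164, 6, 0), (165, 2, 0),
  (165, 4, 0), (165, 5, 0), (165, 7, 0), (166, 0, 3), (166, 1, 3), (166, 2, 3), (166, 5, 3), (166, 7, 3),
  (167, 1, 0), (167, 6, 0), (167, 7, 0), (168, 0, 4), (168, 1, 4), (168, 2, 4), (168, 3, 4), (168, 5, 4),
  (168, 6, 4), (168, 7, 4), (169, 0, 2), (169, 1, 2), (169, 3, 2), (169, 4, 2), (169, 5, 2), (169, 6, 2),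
  (169, 7, 2), (170, 2, 0), (170, 4, 0), (170, 5, 0), (170, 6, 0), (171, 0, 3), (171, 1, 3), (171, 2, 3),
  (171, 5, 3), (171, 6, 3), (172, 1, 0), (172, 5, 0), (172, 7, 0), (173, 0, 4), (173, 1, 4), (173, 2, 4),
  (173, 3, 4), (173, 7, 4), (174, 0, 2), (174, 1, 2), (174, 3, 2), (174, 6, 2), (174, 7, 2), (175, 1, 0),
  (175, 2, 4), (175, 3, 0), (175, 5, 0), (175, 6, 0), (175, 7, 0), (176, 1, 0), (176, 5, 0), (176, 6, 0),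
  (177, 0, 4), (177, 1, 4), (177, 2, 4), (177, 3, 4), (177, 6, 4), (178, 0, 2), (178, 1, 2), (178, 3, 2),
  (178, 5, 2), (178, 7, 2), (179, 1, 0), (179, 2, 4), (179, 3, 0), (179, 7, 0), (180, 0, 5), (180, 1, 5),
  (180, 2, 5), (180, 3, 5), (180, 4, 5), (180, 6, 5), (180, 7, 5), (181, 0, 2), (181, 1, 2), (181, 5, 2),
  (181, 6, 2), (181, 7, 2), (182, 0, 2), (182, 1, 2), (182, 3, 2), (182, 5, 2), (182, 6, 2), (183, 1, 0),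
  (183, 2, 4), (183, 3, 0), (183, 6, 0), (184, 0, 5), (184, 1, 5), (184, 2, 5), (184, 3, 5), (184, 4, 5),
  (185, 0, 2), (185, 1, 2), (185, 7, 2), (186, 1, 0), (186, 2, 5), (186, 3, 0), (186, 4, 0), (186, 6, 0),
  (186, 7, 0), (187, 0, 3), (187, 2, 3), (187, 4, 3), (187, 5, 3), (187, 6, 3), (187, 7, 3), (188, 0, 2),
  (188, 1, 2), (188, 6, 2), (189, 1, 0), (189, 2, 5), (189, 3, 0), (189, 4, 0), (190, 0, 6), (190, 1, 6),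
  (190, 2, 6), (190, 3, 6), (190, 4, 6), (190, 5, 6), (190, 7, 6), (191, 0, 3), (191, 2, 3), (191, 4, 3),
  (191, 7, 3), (192, 0, 2), (192, 1, 2), (192, 3, 5), (192, 4, 2), (192, 6, 2), (192, 7, 2), (193, 0, 1),
  (193, 2, 1), (193, 3, 1), (193, 4, 1), (193, 5, 1), (193, 6, 1), (193, 7, 1), (194, 0, 3), (194, 2, 3),
  (194, 4, 3), (194, 6, 3), (195, 0, 2), (195, 1, 2), (195, 3, 5), (195, 4, 2), (196, 1, 0), (196, 2, 6),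
  (196, 3, 0), (196, 4, 0), (196, 5, 0), (196, 7, 0), (197, 0, 1), (197, 2, 1), (197, 3, 1), (197, 4, 1),
  (197, 7, 1), (198, 0, 3), (198, 1, 5), (198, 2, 3), (198, 6, 3), (198, 7, 3), (199, 0, 1), (199, 2, 1),
  (199, 3, 1), (199, 4, 1), (199, 6, 1), (200, 0, 3), (200, 1, 5), (200, 2, 3), (201, 0, 2), (201, 1, 2),
  (201, 3, 6), (201, 4, 2), (201, 5, 2), (201, 7, 2), (202, 0, 1), (202, 2, 1), (202, 3, 1), (202, 6, 1),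
  (202, 7, 1), (203, 0, 4), (203, 1, 4), (203, 2, 4), (203, 3, 4), (203, 5, 4), (203, 6, 4), (203, 7, 4),
  (204, 0, 1), (204, 2, 1), (204, 3, 1), (205, 0, 4), (205, 1, 4), (205, 2, 4), (205, 3, 4), (205, 5, 4),
  (206, 0, 3), (206, 1, 6), (206, 2, 3), (206, 4, 6), (206, 5, 3), (206, 7, 3), (207, 0, 1), (207, 2, 1),
  (207, 5, 1), (207, 6, 1), (207, 7, 1), (208, 0, 1), (208, 2, 1), (208, 5, 1), (209, 0, 1), (209, 2, 1),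
  (209, 3, 1), (209, 4, 6), (209, 5, 1), (209, 7, 1), (210, 0, 4), (210, 1, 4), (210, 2, 4), (210, 3, 4),
  (210, 7, 4), (211, 0, 3), (211, 1, 3), (211, 4, 3), (211, 5, 3), (211, 6, 3), (211, 7, 3), (212, 0, 3),
  (212, 1, 3), (212, 4, 3), (212, 5, 3), (213, 0, 1), (213, 2, 1), (213, 3, 6), (213, 7, 1), (214, 0, 5),
  (214, 1, 5), (214, 2, 5), (214, 3, 5), (214, 4, 5), (214, 6, 5), (214, 7, 5), (215, 1, 2), (215, 3, 2),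
  (215, 4, 2), (215, 5, 2), (215, 6, 2), (215, 7, 2), (216, 1, 2), (216, 3, 2), (216, 4, 2), (216, 5, 2),
  (217, 0, 3), (217, 1, 3), (217, 2, 6), (217, 4, 3), (217, 7, 3), (218, 0, 1), (218, 2, 1), (218, 3, 5),
  (218, 4, 1), (218, 6, 1), (218, 7, 1), (219, 1, 0), (219, 2, 0), (219, 3, 0), (219, 4, 0), (219, 5, 0),
  (219, 6, 0), (219, 7, 0), (220, 1, 0), (220, 2, 0), (220, 3, 0), (220, 4, 0), (220, 5, 0), (221, 0, 6),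
  (221, 1, 2), (221, 3, 2), (221, 4, 2), (221, 7, 2), (222, 0, 3), (222, 1, 3), (222, 2, 5), (222, 6, 3),
  (222, 7, 3), (223, 1, 0), (223, 2, 0), (223, 3, 0), (223, 4, 0), (223, 7, 0), (224, 0, 5), (224, 1, 2),
  (224, 3, 2), (224, 6, 2), (224, 7, 2), (225, 0, 4), (225, 1, 4), (225, 2, 4), (225, 3, 4), (225, 5, 4),
  (225, 6, 4), (225, 7, 4), (226, 1, 0), (226, 2, 0), (226, 3, 0), (226, 6, 0), (226, 7, 0), (227, 0, 4),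
  (227, 1, 2), (227, 5, 2), (227, 6, 2), (227, 7, 2), (228, 1, 0), (228, 2, 0), (228, 5, 0), (228, 6, 0),
  (228, 7, 0), (229, 0, 3), (229, 2, 3), (229, 4, 3), (229, 5, 3), (229, 6, 3), (229, 7, 3), (230, 4, 0),
  (230, 5, 0), (230, 6, 0), (230, 7, 0), (231, 0, 1), (231, 2, 1), (231, 3, 1), (231, 4, 1), (231, 5, 1),
  (231, 6, 1), (231, 7, 1), (232, 3, 0), (232, 4, 0), (232, 5, 0), (232, 6, 0), (232, 7, 0), (233, 0, 2),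
  (233, 1, 2), (233, 3, 2), (233, 4, 2), (233, 5, 2), (233, 6, 2), (233, 7, 2), (234, 0, 1), (234, 4, 1),
  (234, 5, 1), (234, 6, 1), (234, 7, 1), (235, 0, 3), (235, 1, 3), (235, 2, 3), (235, 5, 3), (235, 6, 3),
  (235, 7, 3), (236, 0, 4), (236, 1, 4), (236, 2, 4), (236, 3, 4), (236, 6, 4), (236, 7, 4), (237, 0, 5),
  (237, 1, 5), (237, 2, 5), (237, 3, 5), (237, 4, 5), (237, 7, 5), (238, 0, 6), (238, 1, 6), (238, 2, 6),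
  (238, 3, 6), (238, 4, 6), (238, 5, 6), (239, 0, 7), (239, 1, 7), (239, 2, 7), (239, 3, 7), (239, 4, 7),
  (239, 5, 7), (239, 6, 7)
]

def level0 : Level := ⟨7, [0, 1, 2, 3, 4, 5, 6, 7], words0, table0, nxt0, ded0⟩

def words1 : List (List ℕ) := [
  [], [6], [5, 6], [4, 5, 6], [3, 4, 5, 6], [1, 3, 4, 5, 6], [2, 3, 4, 5, 6], [2, 1, 3, 4, 5, 6],
  [0, 2, 3, 4, 5, 6], [0, 2, 1, 3, 4, 5, 6], [3, 2, 1, 3, 4, 5, 6], [3, 0, 2, 1, 3, 4, 5, 6], [4, 3, 2, 1, 3, 4, 5, 6], [2, 3, 0, 2, 1, 3, 4, 5, 6], [4, 3, 0, 2, 1, 3, 4, 5, 6], [5, 4, 3, 2, 1, 3, 4, 5, 6],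
  [4, 2, 3, 0, 2, 1, 3, 4, 5, 6], [5, 4, 3, 0, 2, 1, 3, 4, 5, 6], [6, 5, 4, 3, 2, 1, 3, 4, 5, 6], [3, 4, 2, 3, 0, 2, 1, 3, 4, 5, 6], [5, 4, 2, 3, 0, 2, 1, 3, 4, 5, 6], [6, 5, 4, 3, 0, 2, 1, 3, 4, 5, 6], [1, 3, 4, 2, 3, 0, 2, 1, 3, 4, 5, 6], [5, 3, 4, 2, 3, 0, 2, 1, 3, 4, 5, 6],
  [6, 5, 4, 2, 3, 0, 2, 1, 3, 4, 5, 6], [5, 1, 3, 4, 2, 3, 0, 2, 1, 3, 4, 5, 6], [4, 5, 3, 4, 2, 3, 0, 2, 1, 3, 4, 5, 6], [6, 5, 3, 4, 2, 3, 0, 2, 1, 3, 4, 5, 6], [4, 5, 1, 3, 4, 2, 3, 0, 2, 1, 3, 4, 5, 6], [6, 5, 1, 3, 4, 2, 3, 0, 2, 1, 3, 4, 5, 6], [6, 4, 5, 3, 4, 2, 3, 0, 2, 1, 3, 4, 5, 6], [3, 4, 5, 1, 3, 4, 2, 3, 0, 2, 1, 3, 4, 5, 6],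
  [6, 4, 5, 1, 3, 4, 2, 3, 0, 2, 1, 3, 4, 5, 6], [5, 6, 4, 5, 3, 4, 2, 3, 0, 2, 1, 3, 4, 5, 6], [2, 3, 4, 5, 1, 3, 4, 2, 3, 0, 2, 1, 3, 4, 5, 6], [6, 3, 4, 5, 1, 3, 4, 2, 3, 0, 2, 1, 3, 4, 5, 6], [5, 6, 4, 5, 1, 3, 4, 2, 3, 0, 2, 1, 3, 4, 5, 6], [0, 2, 3, 4, 5, 1, 3, 4, 2, 3, 0, 2, 1, 3, 4, 5, 6], [6, 2, 3, 4, 5, 1, 3, 4, 2, 3, 0, 2, 1, 3, 4, 5, 6], [5, 6, 3, 4, 5, 1, 3, 4, 2, 3, 0, 2, 1, 3, 4, 5, 6],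
  [6, 0, 2, 3, 4, 5, 1, 3, 4, 2, 3, 0, 2, 1, 3, 4, 5, 6], [5, 6, 2, 3, 4, 5, 1, 3, 4, 2, 3, 0, 2, 1, 3, 4, 5, 6], [4, 5, 6, 3, 4, 5, 1, 3, 4, 2, 3, 0, 2, 1, 3, 4, 5, 6], [5, 6, 0, 2, 3, 4, 5, 1, 3, 4, 2, 3, 0, 2, 1, 3, 4, 5, 6], [4, 5, 6, 2, 3, 4, 5, 1, 3, 4, 2, 3, 0, 2, 1, 3, 4, 5, 6], [4, 5, 6, 0, 2, 3, 4, 5, 1, 3, 4, 2, 3, 0, 2, 1, 3, 4, 5, 6], [3, 4, 5, 6, 2, 3, 4, 5, 1, 3, 4, 2, 3, 0, 2, 1, 3, 4, 5, 6], [3, 4, 5, 6, 0, 2, 3, 4, 5, 1, 3, 4, 2, 3, 0, 2, 1, 3, 4, 5, 6],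
  [1, 3, 4, 5, 6, 2, 3, 4, 5, 1, 3, 4, 2, 3, 0, 2, 1, 3, 4, 5, 6], [1, 3, 4, 5, 6, 0, 2, 3, 4, 5, 1, 3, 4, 2, 3, 0, 2, 1, 3, 4, 5, 6], [2, 3, 4, 5, 6, 0, 2, 3, 4, 5, 1, 3, 4, 2, 3, 0, 2, 1, 3, 4, 5, 6], [2, 1, 3, 4, 5, 6, 0, 2, 3, 4, 5, 1, 3, 4, 2, 3, 0, 2, 1, 3, 4, 5, 6], [3, 2, 1, 3, 4, 5, 6, 0, 2, 3, 4, 5, 1, 3, 4, 2, 3, 0, 2, 1, 3, 4, 5, 6], [4, 3, 2, 1, 3, 4, 5, 6, 0, 2, 3, 4, 5, 1, 3, 4, 2, 3, 0, 2, 1, 3, 4, 5, 6], [5, 4, 3, 2, 1, 3, 4, 5, 6, 0, 2, 3, 4, 5, 1, 3, 4, 2, 3, 0, 2, 1, 3, 4, 5, 6], [6, 5, 4, 3, 2, 1, 3, 4, 5, 6, 0, 2, 3, 4, 5, 1, 3, 4, 2, 3, 0, 2, 1, 3, 4, 5, 6]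
]

def table1 : List (List ℤ) := [
  [0, 0, 0, 0, 0, 0, 1, 0], [0, 0, 0, 0, 0, 1, -1, 1], [0, 0, 0, 0, 1, -1, 0, 1], [0, 0, 0, 1, -1, 0, 0, 1], [0, 1, 1, -1, 0, 0, 0, 1], [0, -1, 1, 0, 0, 0, 0, 1], [1, 1, -1, 0, 0, 0, 0, 1], [1, -1, -1, 1, 0, 0, 0, 1],
  [-1, 1, 0, 0, 0, 0, 0, 1], [-1, -1, 0, 1, 0, 0, 0, 1], [1, 0, 0, -1, 1, 0, 0, 1], [-1, 0, 1, -1, 1, 0, 0, 1], [1, 0, 0, 0, -1, 1, 0, 1], [0, 0, -1, 0, 1, 0, 0, 1], [-1, 0, 1, 0, -1, 1, 0, 1], [1, 0, 0, 0, 0, -1, 1, 1],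
  [0, 0, -1, 1, -1, 1, 0, 1], [-1, 0, 1, 0, 0, -1, 1, 1], [1, 0, 0, 0, 0, 0, -1, 2], [0, 1, 0, -1, 0, 1, 0, 1], [0, 0, -1, 1, 0, -1, 1, 1], [-1, 0, 1, 0, 0, 0, -1, 2], [0, -1, 0, 0, 0, 1, 0, 1], [0, 1, 0, -1, 1, -1, 1, 1],
  [0, 0, -1, 1, 0, 0, -1, 2], [0, -1, 0, 0, 1, -1, 1, 1], [0, 1, 0, 0, -1, 0, 1, 1], [0, 1, 0, -1, 1, 0, -1, 2], [0, -1, 0, 1, -1, 0, 1, 1], [0, -1, 0, 0, 1, 0, -1, 2], [0, 1, 0, 0, -1, 1, -1, 2], [0, 0, 1, -1, 0, 0, 1, 1],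
  [0, -1, 0, 1, -1, 1, -1, 2], [0, 1, 0, 0, 0, -1, 0, 2], [1, 0, -1, 0, 0, 0, 1, 1], [0, 0, 1, -1, 0, 1, -1, 2], [0, -1, 0, 1, 0, -1, 0, 2], [-1, 0, 0, 0, 0, 0, 1, 1], [1, 0, -1, 0, 0, 1, -1, 2], [0, 0, 1, -1, 1, -1, 0, 2],
  [-1, 0, 0, 0, 0, 1, -1, 2], [1, 0, -1, 0, 1, -1, 0, 2], [0, 0, 1, 0, -1, 0, 0, 2], [-1, 0, 0, 0, 1, -1, 0, 2], [1, 0, -1, 1, -1, 0, 0, 2], [-1, 0, 0, 1, -1, 0, 0, 2], [1, 1, 0, -1, 0, 0, 0, 2], [-1, 1, 1, -1, 0, 0, 0, 2],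
  [1, -1, 0, 0, 0, 0, 0, 2], [-1, -1, 1, 0, 0, 0, 0, 2], [0, 1, -1, 0, 0, 0, 0, 2], [0, -1, -1, 1, 0, 0, 0, 2], [0, 0, 0, -1, 1, 0, 0, 2], [0, 0, 0, 0, -1, 1, 0, 2], [0, 0, 0, 0, 0, -1, 1, 2], [0, 0, 0, 0, 0, 0, -1, 3]
]

def nxt1 : List (List ℕ) := [
  [0, 1, 2, 3, 4, 5, 8, 9, 6, 7, 11, 10, 14, 13, 12, 17, 16, 15, 21, 19, 20, 18, 22, 23, 24, 25, 26, 27, 28, 29, 30, 31, 32, 33, 37, 35, 36, 34, 40, 39, 38, 43, 42, 41, 45, 44, 47, 46, 49, 48, 50, 51, 52, 53, 54, 55], [0, 1, 2, 3, 5, 4, 7, 6, 9, 8, 10, 11, 12, 13, 14, 15, 16, 17, 18, 22, 20, 21, 19, 25, 24, 23, 28, 29, 26, 27, 32, 31, 30, 36, 34, 35, 33, 37, 38, 39, 40, 41, 42, 43, 44, 45, 48, 49, 46, 47, 51, 50, 52, 53, 54, 55], [0, 1, 2, 3, 6, 7, 4, 5, 8, 9, 10, 13,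 12, 11, 16, 15, 14, 20, 18, 19, 17, 24, 22, 23, 21, 25, 26, 27, 28, 29, 30, 34, 32, 33, 31, 38, 36, 37, 35, 41, 40, 39, 44, 43, 42, 45, 46, 50, 48, 51, 47, 49, 52, 53, 54, 55], [0, 1, 2, 4, 3, 5, 6, 10, 8, 11, 7, 9, 12, 13, 14, 15, 19, 17, 18, 16, 23, 21, 22, 20, 27, 25, 26, 24, 31, 29, 30, 28, 35, 33, 34, 32, 39, 37, 38, 36, 40, 41, 42, 43, 46, 47, 44, 45, 48, 49, 50, 52, 51, 53, 54, 55], [0, 1, 3, 2, 4, 5, 6, 7, 8, 9, 12, 14, 10, 16, 11, 15, 13, 17, 18, 19, 20, 21, 22, 26, 24, 28, 23, 30, 25, 32, 27, 31, 29, 33, 34, 35, 36, 37, 38, 42, 40, 44, 39, 45, 41, 43, 46, 47, 48, 49, 50, 51, 53, 52, 54, 55], [0, 2, 1, 3, 4, 5, 6, 7, 8, 9, 10, 11, 15, 13, 17, 12, 20, 14, 18, 23, 16, 21, 25, 19, 24, 22, 26, 27, 28, 29, 33,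 31, 36, 30, 34, 39, 32, 37, 41, 35, 43, 38, 42, 40, 44, 45, 46, 47, 48, 49, 50, 51, 52, 54, 53, 55], [1, 0, 2, 3, 4, 5, 6, 7, 8, 9, 10, 11, 12, 13, 14, 18, 16, 21, 15, 19, 24, 17, 22, 27, 20, 29, 30, 23, 32, 25, 26, 35, 28, 33, 38, 31, 36, 40, 34, 39, 37, 41, 42, 43, 44, 45, 46, 47, 48, 49, 50, 51, 52, 53, 55, 54], [0, 0, 0, 0, 0, 0, 0, 0, 0, 0, 0, 0, 0, 0, 0, 0, 0, 0, 0, 0, 0, 0, 0, 0, 0, 0, 0, 0, 0, 0, 0, 0, 0, 0, 0, 0, 0, 0, 0, 0, 0, 0, 0, 0, 0, 0, 0, 0, 0, 0, 0, 0, 0, 0, 0, 0]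
]

def ded1 : List (ℕ × ℕ × ℕ) := [
  (1, 0, 6), (1, 1, 6), (1, 2, 6), (1, 3, 6), (1, 4, 6), (2, 0, 5), (2, 1, 5), (2, 2, 5),
  (2, 3, 5), (2, 6, 5), (3, 0, 4), (3, 1, 4), (3, 2, 4), (3, 5, 4), (3, 6, 4), (4, 0, 3),
  (4, 4, 3), (4, 5, 3), (4, 6, 3), (5, 0, 1), (5, 3, 1), (5, 4, 1), (5, 5, 1), (5, 6, 1),
  (6, 1, 2), (6, 3, 2), (6, 4, 2), (6, 5, 2), (6, 6, 2), (7, 4, 1), (7, 5, 1), (7, 6, 1),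
  (8, 1, 0), (8, 2, 0), (8, 3, 0), (8, 4, 0), (8, 5, 0), (8, 6, 0), (9, 2, 0), (9, 4, 0),
  (9, 5, 0), (9, 6, 0), (10, 0, 3), (10, 1, 3), (10, 2, 3), (10, 5, 3), (10, 6, 3), (11, 1, 0),
  (11, 5, 0), (11, 6, 0), (12, 0, 4), (12, 1, 4), (12, 2, 4), (12, 3, 4), (12, 6, 4), (13, 0, 2),
  (13, 1, 2), (13, 3, 2), (13, 5, 2), (13, 6, 2), (14, 1, 0), (14, 2, 4), (14, 3, 0), (14, 6, 0),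
  (15, 0, 5), (15, 1, 5), (15, 2, 5), (15, 3, 5), (15, 4, 5), (16, 0, 2), (16, 1, 2), (16, 6, 2),
  (17, 1, 0), (17, 2, 5), (17, 3, 0), (17, 4, 0), (18, 0, 6), (18, 1, 6), (18, 2, 6), (18, 3, 6),
  (18, 4, 6), (18, 5, 6), (19, 0, 3), (19, 2, 3), (19, 4, 3), (19, 6, 3), (20, 0, 2), (20, 1, 2),
  (20, 3, 5), (20, 4, 2), (21, 1, 0), (21, 2, 6), (21, 3, 0), (21, 4, 0), (21, 5, 0), (22, 0, 1),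
  (22, 2, 1), (22, 3, 1), (22, 4, 1), (22, 6, 1), (23, 0, 3), (23, 1, 5), (23, 2, 3), (24, 0, 2),
  (24, 1, 2), (24, 3, 6), (24, 4, 2), (24, 5, 2), (25, 0, 1), (25, 2, 1), (25, 3, 1), (26, 0, 4),
  (26, 1, 4), (26, 2, 4), (26, 3, 4), (26, 5, 4), (27, 0, 3), (27, 1, 6), (27, 2, 3), (27, 4, 6),
  (27, 5, 3), (28, 0, 1), (28, 2, 1), (28, 5, 1), (29, 0, 1), (29, 2, 1), (29, 3, 1), (29, 4, 6),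
  (29, 5, 1), (30, 0, 4), (30, 1, 4), (30, 2, 4), (30, 3, 4), (31, 0, 3), (31, 1, 3), (31, 4, 3),
  (31, 5, 3), (32, 0, 1), (32, 2, 1), (32, 3, 6), (33, 0, 5), (33, 1, 5), (33, 2, 5), (33, 3, 5),
  (33, 4, 5), (33, 6, 5), (34, 1, 2), (34, 3, 2), (34, 4, 2), (34, 5, 2), (35, 0, 3), (35, 1, 3),
  (35, 2, 6), (35, 4, 3), (36, 0, 1), (36, 2, 1), (36, 3, 5), (36, 4, 1), (36, 6, 1), (37, 1, 0),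
  (37, 2, 0), (37, 3, 0), (37, 4, 0), (37, 5, 0), (38, 0, 6), (38, 1, 2), (38, 3, 2), (38, 4, 2),
  (39, 0, 3), (39, 1, 3), (39, 2, 5), (39, 6, 3), (40, 1, 0), (40, 2, 0), (40, 3, 0), (40, 4, 0),
  (41, 0, 5), (41, 1, 2), (41, 3, 2), (41, 6, 2), (42, 0, 4), (42, 1, 4), (42, 2, 4), (42, 3, 4),
  (42, 5, 4), (42, 6, 4), (43, 1, 0), (43, 2, 0), (43, 3, 0), (43, 6, 0), (44, 0, 4), (44, 1, 2),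
  (44, 5, 2), (44, 6, 2), (45, 1, 0), (45, 2, 0), (45, 5, 0), (45, 6, 0), (46, 0, 3), (46, 2, 3),
  (46, 4, 3), (46, 5, 3), (46, 6, 3), (47, 4, 0), (47, 5, 0), (47, 6, 0), (48, 0, 1), (48, 2, 1),
  (48, 3, 1), (48, 4, 1), (48, 5, 1), (48, 6, 1), (49, 3, 0), (49, 4, 0), (49, 5, 0), (49, 6, 0),
  (50, 0, 2), (50, 1, 2), (50, 3, 2), (50, 4, 2), (50, 5, 2), (50, 6, 2), (51, 0, 1), (51, 4, 1),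
  (51, 5, 1), (51, 6, 1), (52, 0, 3), (52, 1, 3), (52, 2, 3), (52, 5, 3), (52, 6, 3), (53, 0, 4),
  (53, 1, 4), (53, 2, 4), (53, 3, 4), (53, 6, 4), (54, 0, 5), (54, 1, 5), (54, 2, 5), (54, 3, 5),
  (54, 4, 5), (55, 0, 6), (55, 1, 6), (55, 2, 6), (55, 3, 6), (55, 4, 6), (55, 5, 6)
]

def level1 : Level := ⟨6, [0, 1, 2, 3, 4, 5, 6], words1, table1, nxt1, ded1⟩

def words2 : List (List ℕ) := [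
  [], [5], [4, 5], [3, 4, 5], [1, 3, 4, 5], [2, 3, 4, 5], [2, 1, 3, 4, 5], [0, 2, 3, 4, 5],
  [0, 2, 1, 3, 4, 5], [3, 2, 1, 3, 4, 5], [3, 0, 2, 1, 3, 4, 5], [4, 3, 2, 1, 3, 4, 5], [2, 3, 0, 2, 1, 3, 4, 5], [4, 3, 0, 2, 1, 3, 4, 5], [5, 4, 3, 2, 1, 3, 4, 5], [4, 2, 3, 0, 2, 1, 3, 4, 5],
  [5, 4, 3, 0, 2, 1, 3, 4, 5], [3, 4, 2, 3, 0, 2, 1, 3, 4, 5], [5, 4, 2, 3, 0, 2, 1, 3, 4, 5], [1, 3, 4, 2, 3, 0, 2, 1, 3, 4, 5], [5, 3, 4, 2, 3, 0, 2, 1, 3, 4, 5], [5, 1, 3, 4, 2, 3, 0, 2, 1, 3, 4, 5], [4, 5, 3, 4, 2, 3, 0, 2, 1, 3, 4, 5], [4, 5, 1, 3, 4, 2, 3, 0, 2, 1, 3, 4, 5],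
  [3, 4, 5, 1, 3, 4, 2, 3, 0, 2, 1, 3, 4, 5], [2, 3, 4, 5, 1, 3, 4, 2, 3, 0, 2, 1, 3, 4, 5], [0, 2, 3, 4, 5, 1, 3, 4, 2, 3, 0, 2, 1, 3, 4, 5]
]

def table2 : List (List ℤ) := [
  [0, 0, 0, 0, 0, 1, 0, 0], [0, 0, 0, 0, 1, -1, 1, 0], [0, 0, 0, 1, -1, 0, 1, 0], [0, 1, 1, -1, 0, 0, 1, 0], [0, -1, 1, 0, 0, 0, 1, 0], [1, 1, -1, 0, 0, 0, 1, 0], [1, -1, -1, 1, 0, 0, 1, 0], [-1, 1, 0, 0, 0, 0, 1, 0],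
  [-1, -1, 0, 1, 0, 0, 1, 0], [1, 0, 0, -1, 1, 0, 1, 0], [-1, 0, 1, -1, 1, 0, 1, 0], [1, 0, 0, 0, -1, 1, 1, 0], [0, 0, -1, 0, 1, 0, 1, 0], [-1, 0, 1, 0, -1, 1, 1, 0], [1, 0, 0, 0, 0, -1, 2, 0], [0, 0, -1, 1, -1, 1, 1, 0],
  [-1, 0, 1, 0, 0, -1, 2, 0], [0, 1, 0, -1, 0, 1, 1, 0], [0, 0, -1, 1, 0, -1, 2, 0], [0, -1, 0, 0, 0, 1, 1, 0], [0, 1, 0, -1, 1, -1, 2, 0], [0, -1, 0, 0, 1, -1, 2, 0], [0, 1, 0, 0, -1, 0, 2, 0], [0, -1, 0, 1, -1, 0, 2, 0],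
  [0, 0, 1, -1, 0, 0, 2, 0], [1, 0, -1, 0, 0, 0, 2, 0], [-1, 0, 0, 0, 0, 0, 2, 0]
]

def nxt2 : List (List ℕ) := [
  [0, 1, 2, 3, 4, 7, 8, 5, 6, 10, 9, 13, 12, 11, 16, 15, 14, 17, 18, 19, 20, 21, 22, 23, 24, 26, 25], [0, 1, 2, 4, 3, 6, 5, 8, 7, 9, 10, 11, 12, 13, 14, 15, 16, 19, 18, 17, 21, 20, 23, 22, 24, 25, 26], [0, 1, 2, 5, 6, 3, 4, 7, 8, 9, 12, 11, 10, 15, 14, 13, 18, 17, 16, 19, 20, 21, 22, 23, 25, 24, 26], [0, 1, 3, 2, 4, 5, 9, 7, 10, 6, 8, 11, 12, 13, 14, 17, 16, 15, 20, 19, 18, 21, 22, 24, 23, 25, 26], [0, 2, 1, 3, 4, 5, 6, 7, 8, 11, 13, 9, 15, 10, 14, 12, 16, 17, 18, 19, 22, 23, 20, 21, 24, 25, 26], [1, 0, 2, 3, 4, 5, 6, 7, 8, 9, 10, 14, 12, 16, 11, 18, 13, 20, 15, 21, 17, 19, 22, 23, 24, 25, 26], [0, 0,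 0, 0, 0, 0, 0, 0, 0, 0, 0, 0, 0, 0, 0, 0, 0, 0, 0, 0, 0, 0, 0, 0, 0, 0, 0], [0, 0, 0, 0, 0, 0, 0, 0, 0, 0, 0, 0, 0, 0, 0, 0, 0, 0, 0, 0, 0, 0, 0, 0, 0, 0, 0]
]

def ded2 : List (ℕ × ℕ × ℕ) := [
  (1, 0, 5), (1, 1, 5), (1, 2, 5), (1, 3, 5), (2, 0, 4), (2, 1, 4), (2, 2, 4), (2, 5, 4),
  (3, 0, 3), (3, 4, 3), (3, 5, 3), (4, 0, 1), (4, 3, 1), (4, 4, 1), (4, 5, 1), (5, 1, 2),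
  (5, 3, 2), (5, 4, 2), (5, 5, 2), (6, 4, 1), (6, 5, 1), (7, 1, 0), (7, 2, 0), (7, 3, 0),
  (7, 4, 0), (7, 5, 0), (8, 2, 0), (8, 4, 0), (8, 5, 0), (9, 0, 3), (9, 1, 3), (9, 2, 3),
  (9, 5, 3), (10, 1, 0), (10, 5, 0), (11, 0, 4), (11, 1, 4), (11, 2, 4), (11, 3, 4), (12, 0, 2),
  (12, 1, 2), (12, 3, 2), (12, 5, 2), (13, 1, 0), (13, 2, 4), (13, 3, 0), (14, 0, 5), (14, 1, 5),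
  (14, 2, 5), (14, 3, 5), (14, 4, 5), (15, 0, 2), (15, 1, 2), (16, 1, 0), (16, 2, 5), (16, 3, 0),
  (16, 4, 0), (17, 0, 3), (17, 2, 3), (17, 4, 3), (18, 0, 2), (18, 1, 2), (18, 3, 5), (18, 4, 2),
  (19, 0, 1), (19, 2, 1), (19, 3, 1), (19, 4, 1), (20, 0, 3), (20, 1, 5), (20, 2, 3), (21, 0, 1),
  (21, 2, 1), (21, 3, 1), (22, 0, 4), (22, 1, 4), (22, 2, 4), (22, 3, 4), (22, 5, 4), (23, 0, 1),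
  (23, 2, 1), (23, 5, 1), (24, 0, 3), (24, 1, 3), (24, 4, 3), (24, 5, 3), (25, 1, 2), (25, 3, 2),
  (25, 4, 2), (25, 5, 2), (26, 1, 0), (26, 2, 0), (26, 3, 0), (26, 4, 0), (26, 5, 0)
]

def level2 : Level := ⟨5, [0, 1, 2, 3, 4, 5], words2, table2, nxt2, ded2⟩

def words3 : List (List ℕ) := [
  [], [4], [3, 4], [1, 3, 4], [2, 3, 4], [2, 1, 3, 4], [0, 2, 3, 4], [0, 2, 1, 3, 4],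
  [3, 2, 1, 3, 4], [3, 0, 2, 1, 3, 4], [4, 3, 2, 1, 3, 4], [2, 3, 0, 2, 1, 3, 4], [4, 3, 0, 2, 1, 3, 4], [4, 2, 3, 0, 2, 1, 3, 4], [3, 4, 2, 3, 0, 2, 1, 3, 4], [1, 3, 4, 2, 3, 0, 2, 1, 3, 4]
]

def table3 : List (List ℤ) := [
  [0, 0, 0, 0, 1, 0, 0, 0], [0, 0, 0, 1, -1, 1, 0, 0], [0, 1, 1, -1, 0, 1, 0, 0], [0, -1, 1, 0, 0, 1, 0, 0], [1, 1, -1, 0, 0, 1, 0, 0], [1, -1, -1, 1, 0, 1, 0, 0], [-1, 1, 0, 0, 0, 1, 0, 0], [-1, -1, 0, 1, 0, 1, 0, 0],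
  [1, 0, 0, -1, 1, 1, 0, 0], [-1, 0, 1, -1, 1, 1, 0, 0], [1, 0, 0, 0, -1, 2, 0, 0], [0, 0, -1, 0, 1, 1, 0, 0], [-1, 0, 1, 0, -1, 2, 0, 0], [0, 0, -1, 1, -1, 2, 0, 0], [0, 1, 0, -1, 0, 2, 0, 0], [0, -1, 0, 0, 0, 2, 0, 0]
]

def nxt3 : List (List ℕ) := [
  [0, 1, 2, 3, 6, 7, 4, 5, 9, 8, 12, 11, 10, 13, 14, 15], [0, 1, 3, 2, 5, 4, 7, 6, 8, 9, 10, 11, 12, 13, 15, 14], [0, 1, 4, 5, 2, 3, 6, 7, 8, 11, 10, 9, 13, 12, 14, 15], [0, 2, 1, 3, 4, 8, 6, 9, 5, 7, 10, 11, 12, 14, 13, 15], [1, 0, 2, 3, 4, 5, 6, 7, 10, 12, 8, 13, 9, 11, 14, 15], [0, 0, 0, 0, 0, 0, 0, 0, 0, 0, 0, 0, 0, 0, 0, 0], [0, 0, 0, 0, 0, 0, 0, 0, 0, 0, 0, 0, 0, 0, 0, 0], [0, 0, 0, 0, 0, 0, 0, 0, 0, 0, 0, 0, 0, 0, 0, 0]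
]

def ded3 : List (ℕ × ℕ × ℕ) := [
  (1, 0, 4), (1, 1, 4), (1, 2, 4), (2, 0, 3), (2, 4, 3), (3, 0, 1), (3, 3, 1), (3, 4, 1),
  (4, 1, 2), (4, 3, 2), (4, 4, 2), (5, 4, 1), (6, 1, 0), (6, 2, 0), (6, 3, 0), (6, 4, 0),
  (7, 2, 0), (7, 4, 0), (8, 0, 3), (8, 1, 3), (8, 2, 3), (9, 1, 0), (10, 0, 4), (10, 1, 4),
  (10, 2, 4), (10, 3, 4), (11, 0, 2), (11, 1, 2), (11, 3, 2), (12, 1, 0), (12, 2, 4), (12, 3, 0),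
  (13, 0, 2), (13, 1, 2), (14, 0, 3), (14, 2, 3), (14, 4, 3), (15, 0, 1), (15, 2, 1), (15, 3, 1),
  (15, 4, 1)
]

def level3 : Level := ⟨4, [0, 1, 2, 3, 4], words3, table3, nxt3, ded3⟩

def words4 : List (List ℕ) := [
  [], [3], [1, 3], [2, 3], [2, 1, 3], [0, 2, 3], [0, 2, 1, 3], [3, 2, 1, 3],
  [3, 0, 2, 1, 3], [2, 3, 0, 2, 1, 3]
]

def table4 : List (List ℤ) := [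
  [0, 0, 0, 1, 0, 0, 0, 0], [0, 1, 1, -1, 1, 0, 0, 0], [0, -1, 1, 0, 1, 0, 0, 0], [1, 1, -1, 0, 1, 0, 0, 0], [1, -1, -1, 1, 1, 0, 0, 0], [-1, 1, 0, 0, 1, 0, 0, 0], [-1, -1, 0, 1, 1, 0, 0, 0], [1, 0, 0, -1, 2, 0, 0, 0],
  [-1, 0, 1, -1, 2, 0, 0, 0], [0, 0, -1, 0, 2, 0, 0, 0]
]

def nxt4 : List (List ℕ) := [
  [0, 1, 2, 5, 6, 3, 4, 8, 7, 9], [0, 2, 1, 4, 3, 6, 5, 7, 8, 9], [0, 3, 4, 1, 2, 5, 6, 7, 9, 8], [1, 0, 2, 3, 7, 5, 8, 4, 6, 9], [0, 0, 0, 0, 0, 0, 0, 0, 0, 0], [0, 0, 0, 0, 0, 0, 0, 0, 0, 0], [0, 0, 0, 0, 0, 0, 0, 0, 0, 0], [0, 0, 0, 0, 0, 0, 0, 0, 0, 0]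
]

def ded4 : List (ℕ × ℕ × ℕ) := [
  (1, 0, 3), (2, 0, 1), (2, 3, 1), (3, 1, 2), (3, 3, 2), (5, 1, 0), (5, 2, 0), (5, 3, 0),
  (6, 2, 0), (7, 0, 3), (7, 1, 3), (7, 2, 3), (8, 1, 0), (9, 0, 2), (9, 1, 2), (9, 3, 2)
]

def level4 : Level := ⟨3, [0, 1, 2, 3], words4, table4, nxt4, ded4⟩

def words5 : List (List ℕ) := [
  [], [2], [0, 2]
]

def table5 : List (List ℤ) := [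
  [0, 0, 1, 0, 0, 0, 0, 0], [1, 0, -1, 1, 0, 0, 0, 0], [-1, 0, 0, 1, 0, 0, 0, 0]
]

def nxt5 : List (List ℕ) := [
  [0, 2, 1], [0, 1, 2], [1, 0, 2], [0, 0, 0], [0, 0, 0], [0, 0, 0], [0, 0, 0], [0, 0, 0]
]

def ded5 : List (ℕ × ℕ × ℕ) := [
  (1, 1, 2), (2, 1, 0), (2, 2, 0)
]

def level5 : Level := ⟨2, [0, 1, 2], words5, table5, nxt5, ded5⟩

def words6 : List (List ℕ) := [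
  [], [1]
]

def table6 : List (List ℤ) := [
  [0, 1, 0, 0, 0, 0, 0, 0], [0, -1, 0, 1, 0, 0, 0, 0]
]

def nxt6 : List (List ℕ) := [
  [0, 1], [1, 0], [0, 0], [0, 0], [0, 0], [0, 0], [0, 0], [0, 0]
]

def ded6 : List (ℕ × ℕ × ℕ) := [
  (1, 0, 1)
]

def level6 : Level := ⟨1, [0, 1], words6, table6, nxt6, ded6⟩

def words7 : List (List ℕ) := [
  [], [0]
]

def table7 : List (List ℤ) := [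
  [1, 0, 0, 0, 0, 0, 0, 0], [-1, 0, 1, 0, 0, 0, 0, 0]
]

def nxt7 : List (List ℕ) := [
  [1, 0], [0, 0], [0, 0], [0, 0], [0, 0], [0, 0], [0, 0], [0, 0]
]

def ded7 : List (ℕ × ℕ × ℕ) := [
]

def level7 : Level := ⟨0, [0], words7, table7, nxt7, ded7⟩

def levels : List Level := [level0, level1, level2, level3, level4, level5, level6, level7]

def cartan : List (List ℤ) := [[2, 0, -1, 0, 0, 0, 0, 0], [0, 2, 0, -1, 0, 0, 0, 0], [-1, 0, 2, -1, 0, 0, 0, 0], [0, -1, -1, 2, -1, 0, 0, 0], [0, 0, 0, -1, 2, -1, 0, 0], [0, 0, 0, 0, -1, 2, -1, 0], [0, 0, 0, 0, 0, -1, 2, -1], [0, 0, 0, 0, 0, 0, -1, 2]]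

end Cfsg.Agent.Lib.Coxeter.DataE8
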