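import Cfsg.Agent.Lib.Coxeter.WeylOrder

/-! Generated certificate for the Weyl group of type F4. -/

set_option autoImplicit false

namespace Cfsg.Agent.Lib.Coxeter.DataF4

open WeylOrder

def words0 : List (List ℕ) := [
  [], [3], [2, 3], [1, 2, 3], [0, 1, 2, 3], [2, 1, 2, 3], [2, 0, 1, 2, 3], [3, 2, 1, 2, 3],
  [1, 2, 0, 1, 2, 3], [3, 2, 0, 1, 2, 3], [2, 1, 2, 0, 1, 2, 3], [3, 1, 2, 0, 1, 2, 3], [3, 2, 1, 2, 0, 1, 2, 3], [2, 3, 1, 2, 0, 1, 2, 3], [2, 3, 2, 1, 2, 0, 1, 2, 3], [1, 2, 3, 1, 2, 0, 1, 2, 3],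
  [1, 2, 3, 2, 1, 2, 0, 1, 2, 3], [0, 1, 2, 3, 1, 2, 0, 1, 2, 3], [0, 1, 2, 3, 2, 1, 2, 0, 1, 2, 3], [2, 1, 2, 3, 2, 1, 2, 0, 1, 2, 3], [2, 0, 1, 2, 3, 2, 1, 2, 0, 1, 2, 3], [1, 2, 0, 1, 2, 3, 2, 1, 2, 0, 1, 2, 3], [2, 1, 2, 0, 1, 2, 3, 2, 1, 2, 0, 1, 2, 3], [3, 2, 1, 2, 0, 1, 2, 3, 2, 1, 2, 0, 1, 2, 3]
]

def table0 : List (List ℤ) := [
  [0, 0, 0, 1], [0, 0, 1, -1], [0, 1, -1, 0], [1, -1, 1, 0], [-1, 0, 1, 0], [1, 0, -1, 1], [-1, 1, -1, 1], [1, 0, 0, -1],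
  [0, -1, 1, 1], [-1, 1, 0, -1], [0, 0, -1, 2], [0, -1, 2, -1], [0, 0, 1, -2], [0, 1, -2, 1], [0, 1, -1, -1], [1, -1, 0, 1],
  [1, -1, 1, -1], [-1, 0, 0, 1], [-1, 0, 1, -1], [1, 0, -1, 0], [-1, 1, -1, 0], [0, -1, 1, 0], [0, 0, -1, 1], [0, 0, 0, -1]
]

def nxt0 : List (List ℕ) := [
  [0, 1, 2, 4, 3, 6, 5, 9, 8, 7, 10, 11, 12, 13, 14, 17, 18, 15, 16, 20, 19, 21, 22, 23], [0, 1, 3, 2, 4, 5, 8, 7, 6, 11, 10, 9, 12, 15, 16, 13, 14, 17, 18, 19, 21, 20, 22, 23], [0, 2, 1, 5, 6, 3, 4, 7, 10, 9, 8, 13, 14, 11, 12, 15, 19, 17, 20, 16, 18, 22, 21, 23], [1, 0, 2, 3, 4, 7, 9, 5, 11, 6, 12, 8, 10, 14, 13, 16, 15, 18, 17, 19, 20, 21, 23, 22]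
]

def ded0 : List (ℕ × ℕ × ℕ) := [
  (1, 0, 3), (1, 1, 3), (2, 0, 2), (2, 3, 2), (3, 3, 1), (4, 1, 0), (4, 3, 0), (5, 0, 2),
  (5, 1, 2), (7, 0, 3), (7, 1, 3), (7, 2, 3), (8, 0, 1), (9, 1, 3), (9, 2, 0), (10, 0, 2),
  (10, 1, 2), (11, 0, 1), (12, 0, 3), (12, 1, 3), (13, 0, 2), (13, 3, 2), (14, 0, 2), (15, 2, 1),
  (15, 3, 1), (17, 1, 0), (17, 2, 0), (17, 3, 0), (18, 1, 0), (19, 0, 2), (19, 1, 2), (19, 3, 2),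
  (20, 3, 0), (21, 0, 1), (21, 3, 1), (22, 0, 2), (22, 1, 2), (23, 0, 3), (23, 1, 3), (23, 2, 3)
]

def level0 : Level := ⟨3, [0, 1, 2, 3], words0, table0, nxt0, ded0⟩

def words1 : List (List ℕ) := [
  [], [2], [1, 2], [0, 1, 2], [2, 1, 2], [2, 0, 1, 2], [1, 2, 0, 1, 2], [2, 1, 2, 0, 1, 2]
]

def table1 : List (List ℤ) := [
  [0, 0, 1, 0], [0, 1, -1, 1], [1, -1, 1, 1], [-1, 0, 1, 1], [1, 0, -1, 2], [-1, 1, -1, 2], [0, -1, 1, 2], [0, 0, -1, 3]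
]

def nxt1 : List (List ℕ) := [
  [0, 1, 3, 2, 5, 4, 6, 7], [0, 2, 1, 3, 4, 6, 5, 7], [1, 0, 4, 5, 2, 3, 7, 6], [0, 0, 0, 0, 0, 0, 0, 0]
]

def ded1 : List (ℕ × ℕ × ℕ) := [
  (1, 0, 2), (3, 1, 0), (4, 0, 2), (4, 1, 2), (6, 0, 1), (7, 0, 2), (7, 1, 2)
]

def level1 : Level := ⟨2, [0, 1, 2], words1, table1, nxt1, ded1⟩

def words2 : List (List ℕ) := [
  [], [1], [0, 1]
]

def table2 : List (List ℤ) := [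
  [0, 1, 0, 0], [1, -1, 2, 0], [-1, 0, 2, 0]
]

def nxt2 : List (List ℕ) := [
  [0, 2, 1], [1, 0, 2], [0, 0, 0], [0, 0, 0]
]

def ded2 : List (ℕ × ℕ × ℕ) := [
  (2, 1, 0)
]

def level2 : Level := ⟨1, [0, 1], words2, table2, nxt2, ded2⟩

def words3 : List (List ℕ) := [
  [], [0]
]

def table3 : List (List ℤ) := [
  [1, 0, 0, 0], [-1, 1, 0, 0]
]

def nxt3 : List (List ℕ) := [
  [1, 0], [0, 0], [0, 0], [0, 0]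
]

def ded3 : List (ℕ × ℕ × ℕ) := [
]

def level3 : Level := ⟨0, [0], words3, table3, nxt3, ded3⟩

def levels : List Level := [level0, level1, level2, level3]

def cartan : List (List ℤ) := [[2, -1, 0, 0], [-1, 2, -2, 0], [0, -1, 2, -1], [0, 0, -1, 2]]

end Cfsg.Agent.Lib.Coxeter.DataF4
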