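import Cfsg.Prelude.Def_ChevStructure
import Cfsg.Agent.Lib.Coxeter.DataB2
import Cfsg.Agent.Lib.Coxeter.DataG2
import Cfsg.Agent.Lib.Coxeter.DataD4
import Cfsg.Agent.Lib.Coxeter.DataF4
import Cfsg.Agent.Lib.Coxeter.DataE6
import Cfsg.Agent.Lib.Coxeter.DataE7
import Cfsg.Agent.Lib.Coxeter.DataE8

/-! The Weyl group certificates evaluated. -/

set_option autoImplicit false
set_option maxRecDepth 20000

namespace Cfsg.Agent.Lib.Coxeter.Certs

open WeylOrder

theorem checkB2 : checkAll (CoxeterMatrix.B 2) DataB2.cartan DataB2.levels = true := by decide +kernel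
theorem checkG2 : checkAll CoxeterMatrix.G₂ DataG2.cartan DataG2.levels = true := by decide +kernel
theorem checkD4 : checkAll Cfsg.Lie.coxeterD4 DataD4.cartan DataD4.levels = true := by decide +kernel
theorem checkF4 : checkAll CoxeterMatrix.F₄ DataF4.cartan DataF4.levels = true := by decide +kernel
theorem checkE6 : checkAll CoxeterMatrix.E₆ DataE6.cartan DataE6.levels = true := by decide +kernel
theorem checkE7 : checkAll CoxeterMatrix.E₇ DataE7.cartan DataE7.levels = true := by decide +kernel
theorem checkE8 : checkAll CoxeterMatrix.E₈ DataE8.cartan DataE8.levels = true := by decide +kernel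

/-- Iterates of the Coxeter element on weight coordinates test whether its power is one. -/
def powIsOne (n : ℕ) (C : List (List ℤ)) (d : ℕ) : Bool :=
  (List.range n).all fun k => decide ((fun v => (List.range n).foldr (actL n C) v)^[d] (unitL n k) = unitL n k)

theorem orderOf_coxeterElement {n : ℕ} {M : CoxeterMatrix (Fin n)} {C : List (List ℤ)} {Ls : List Level}
    (hc : checkAll M C Ls = true) (h : ℕ) (h0 : 0 < h)
    (hp : ((List.range (h + 1)).all fun d => (powIsOne n C d) == (d == 0 || d == h)) = true) :
    orderOf ((List.finRange n).map M.simple).prod = h := by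
  have hw : ((List.finRange n).map M.simple).prod = genProd M (List.range n) := by
    rw [genProd, ← List.map_coe_finRange_eq_range, List.map_map]
    congr 1
    exact List.map_congr_left fun i _ => by simp [gen]
  have hrep : ∀ d, (genProd M (List.range n)) ^ d = genProd M (List.replicate d (List.range n)).flatten := by
    intro d
    induction d with
    | zero => simp [genProd]
    | succ d ih => rw [pow_succ', ih, List.replicate_succ, List.flatten_cons]; simp [genProd]
  have hfold : ∀ d (v : List ℤ), (List.replicate d (List.range n)).flatten.foldr (actL n C) v =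
      (fun v => (List.range n).foldr (actL n C) v)^[d] v := by
    intro d v
    induction d with
    | zero => simp
    | succ d ih => rw [List.replicate_succ, List.flatten_cons, List.foldr_append, ih, Function.iterate_succ_apply']
  have key : ∀ d, genProd M (List.range n) ^ d = 1 ↔ powIsOne n C d = true := by
    intro d
    rw [hrep, eq_one_iff Ls hc _ (by
      intro j hj
      simp only [List.mem_flatten, List.mem_replicate] at hj
      obtain ⟨l, ⟨-, rfl⟩, hl⟩ := hj
      exact List.mem_range.1 hl)]
    simp [powIsOne, hfold]
  simp only [List.all_eq_true, List.mem_range, beq_iff_eq] at hp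
  rw [hw, orderOf_eq_iff h0]
  refine ⟨(key h).2 (by simpa using hp h (by omega)), fun d hd hd0 hne => ?_⟩
  have := hp d (by omega)
  rw [(key d).1 hne] at this
  simp at this
  omega

end Cfsg.Agent.Lib.Coxeter.Certs
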