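import Mathlib.GroupTheory.Coxeter.Basic
import Mathlib.Data.List.Basic
import Mathlib.GroupTheory.OrderOfElement
import Mathlib.Tactic.Group

/-!
# A group generated by involutions with the exchange condition is a Coxeter group

Matsumoto's argument: two reduced words for the same element are equal in the Coxeter group.
-/

set_option autoImplicit false

namespace Cfsg.Agent.Lib.Coxeter.Exchange

variable {ι W : Type*} [Group W] (f : ι → W)

/-- The product of a word. -/
def wprod (l : List ι) : W := (l.map f).prod

/-- A word is reduced when no word with the same product is shorter. -/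
def Reduced (l : List ι) : Prop := ∀ l' : List ι, wprod f l' = wprod f l → l.length ≤ l'.length

/-- The exchange condition. -/
def HasExchange : Prop :=
  ∀ (i : ι) (l : List ι), Reduced f l → ¬ Reduced f (i :: l) →
    ∃ k < l.length, f i * wprod f l = wprod f (l.eraseIdx k)

/-- The alternating word of length `n` beginning with `a`. -/
def alt (a b : ι) : ℕ → List ι
  | 0 => []
  | n + 1 => a :: alt b a n

variable {f}

theorem wprod_nil : wprod f [] = 1 := rfl

theorem wprod_cons (i : ι) (l : List ι) : wprod f (i :: l) = f i * wprod f l := by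
  simp [wprod]

theorem wprod_append (l l' : List ι) : wprod f (l ++ l') = wprod f l * wprod f l' := by
  simp [wprod]

theorem length_alt : ∀ (a b : ι) (n : ℕ), (alt a b n).length = n
  | _, _, 0 => rfl
  | a, b, n + 1 => by simp [alt, length_alt b a n]

theorem alt_erase_last : ∀ (a b : ι) (n : ℕ), (alt a b (n + 1)).eraseIdx n = alt a b n
  | _, _, 0 => rfl
  | a, b, n + 1 => by
    change a :: (alt b a (n + 1)).eraseIdx n = _
    rw [alt_erase_last b a n]
    rfl

theorem alt_prod_div {H : Type*} [Group H] (g : ι → H) :
    ∀ (a b : ι), g a * g a = 1 → g b * g b = 1 → ∀ n : ℕ,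
      wprod g (alt a b n) * (wprod g (alt b a n))⁻¹ = (g a * g b) ^ n := by
  intro a b ha hb n
  induction n generalizing a b with
  | zero => simp [alt, wprod_nil]
  | succ n ih =>
    have e : (g b)⁻¹ = g b := inv_eq_of_mul_eq_one_right hb
    calc wprod g (alt a b (n + 1)) * (wprod g (alt b a (n + 1)))⁻¹
        = g a * (wprod g (alt b a n) * (wprod g (alt a b n))⁻¹) * g b := by
          simp only [alt, wprod_cons, mul_inv_rev, e]; group
      _ = g a * (g b * g a) ^ n * g b := by rw [ih b a hb ha]
      _ = (g a * g b) ^ (n + 1) := by
          rw [pow_succ, ← mul_assoc]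
          congr 1
          clear ih
          induction n with
          | zero => simp
          | succ k ih2 =>
            calc g a * (g b * g a) ^ (k + 1) = (g a * g b) * (g a * (g b * g a) ^ k) := by
                  rw [pow_succ']; simp only [mul_assoc]
              _ = (g a * g b) * ((g a * g b) ^ k * g a) := by rw [ih2]
              _ = _ := by rw [← mul_assoc, ← pow_succ']

theorem alt_erase_inner (hinv : ∀ i, f i * f i = 1) :
    ∀ (k : ℕ) (a b : ι) (n : ℕ), 0 < k → k + 1 < n →
      ∃ m : List ι, m.length + 3 = n ∧ wprod f m = wprod f ((alt a b n).eraseIdx k)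
  | 0, _, _, _, h, _ => absurd h (lt_irrefl 0)
  | 1, a, b, n, _, hn => by
    obtain ⟨n, rfl⟩ : ∃ m, n = m + 3 := ⟨n - 3, by omega⟩
    refine ⟨alt b a n, by simp [length_alt], ?_⟩
    simp only [alt, List.eraseIdx_cons_succ, List.eraseIdx_zero, List.tail_cons, wprod_cons]
    rw [← mul_assoc, hinv, one_mul]
  | k + 2, a, b, n, _, hn => by
    obtain ⟨n, rfl⟩ : ∃ m, n = m + 1 := ⟨n - 1, by omega⟩
    obtain ⟨m, hm, hm'⟩ := alt_erase_inner hinv (k + 1) b a n (by omega) (by omega)
    refine ⟨a :: m, by simp; omega, ?_⟩
    simp only [alt, List.eraseIdx_cons_succ, wprod_cons, hm']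

theorem Reduced.tail {i : ι} {l : List ι} (h : Reduced f (i :: l)) : Reduced f l := by
  intro l' hl'
  have := h (i :: l') (by simp [wprod_cons, hl'])
  simpa using this

theorem Reduced.of_eq {l l' : List ι} (h : Reduced f l) (he : wprod f l' = wprod f l)
    (hlen : l'.length ≤ l.length) : Reduced f l' := fun m hm => hlen.trans (h m (hm.trans he))

theorem Reduced.length_eq {l l' : List ι} (h : Reduced f l) (h' : Reduced f l')
    (he : wprod f l' = wprod f l) : l'.length = l.length :=
  le_antisymm (h' l he.symm) (h l' he)

section

variable (hinv : ∀ i, f i * f i = 1) (hinj : Function.Injective f) (hex : HasExchange f)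
variable {H : Type*} [Group H] (g : ι → H) (hg : ∀ i, g i * g i = 1)
variable (hrel : ∀ (a b : ι) (n : ℕ), (f a * f b) ^ n = 1 → (g a * g b) ^ n = 1)

include hinv hinj hex hg hrel in
/-- Matsumoto: reduced words with equal products have equal products in any group in which the
generators are involutions satisfying the relations of pairs. -/
theorem matsumoto : ∀ (k : ℕ) (l l' : List ι), l.length = k → Reduced f l → Reduced f l' →
    wprod f l = wprod f l' → wprod g l = wprod g l' := by
  intro k
  induction k with
  | zero =>
    intro l l' hk hl hl' he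
    have := hl.length_eq hl' he.symm
    rw [List.length_eq_zero_iff.1 hk, List.length_eq_zero_iff.1 (this.trans hk)]
  | succ k ih =>
    have same : ∀ (i : ι) (u v : List ι), u.length = k → Reduced f (i :: u) → Reduced f (i :: v) →
        wprod f (i :: u) = wprod f (i :: v) → wprod g (i :: u) = wprod g (i :: v) := by
      intro i u v hu h h' he
      rw [wprod_cons, wprod_cons, ih u v hu h.tail h'.tail (by simpa [wprod_cons] using he)]
    intro l l' hk hl hl' he
    have hk' := (hl.length_eq hl' he.symm).trans hk
    obtain ⟨s, u, rfl⟩ : ∃ s u, l = s :: u := by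
      cases l with
      | nil => simp at hk
      | cons s u => exact ⟨s, u, rfl⟩
    obtain ⟨t, v, rfl⟩ : ∃ s u, l' = s :: u := by
      cases l' with
      | nil => simp at hk'
      | cons s u => exact ⟨s, u, rfl⟩
    rw [List.length_cons, Nat.succ.injEq] at hk hk'
    by_cases hst : s = t
    · subst hst; exact same s u v hk hl hl' he
    -- `(a, u₀)`, `(b, v₀)`: the two words in one of the two orders; `alt a b j ++ r` a reduced word
    suffices key : ∀ (d : ℕ) (a b : ι) (u₀ v₀ r : List ι) (j : ℕ), a ≠ b → u₀.length = k →
        v₀.length = k → Reduced f (a :: u₀) → Reduced f (b :: v₀) →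
        wprod f (a :: u₀) = wprod f (b :: v₀) →
        j + 1 + r.length = k + 1 → r.length = d →
        wprod f (alt a b (j + 1) ++ r) = wprod f (a :: u₀) →
        wprod g (a :: u₀) = wprod g (b :: v₀) by
      exact key u.length s t u v u 0 hst hk hk' hl hl' he (by omega) rfl (by simp [alt])
    intro d
    induction d using Nat.strong_induction_on with
    | _ d ihd =>
      intro a b u₀ v₀ r j hab hu hv ha hb heab hjr hd hw
      have hwr : Reduced f (alt a b (j + 1) ++ r) :=
        ha.of_eq hw (by simp [length_alt, hu]; omega)
      have hnr : ¬ Reduced f (b :: (alt a b (j + 1) ++ r)) := by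
        intro h
        have := h v₀ (by rw [wprod_cons, hw, heab, wprod_cons, ← mul_assoc, hinv, one_mul])
        simp [length_alt] at this
        omega
      obtain ⟨i, hi, hbi⟩ := hex b _ hwr hnr
      rw [List.length_append, length_alt] at hi
      by_cases hij : j + 1 ≤ i
      · rw [List.eraseIdx_append_of_length_le (by simpa [length_alt] using hij)] at hbi
        have hr' : (r.eraseIdx (i - (j + 1))).length + 1 = r.length := by
          rw [List.length_eraseIdx]; split <;> omega
        have e : wprod f (alt b a (j + 1 + 1) ++ r.eraseIdx (i - (j + 1))) = wprod f (b :: v₀) := by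
          rw [← heab, ← hw]
          change wprod f (b :: (alt a b (j + 1) ++ r.eraseIdx (i - (j + 1)))) = _
          rw [length_alt] at hbi
          rw [wprod_cons, ← hbi, ← mul_assoc, hinv, one_mul]
        exact (ihd _ (by omega) b a v₀ u₀ _ (j + 1) (Ne.symm hab) hv hu hb ha heab.symm (by omega)
          rfl e).symm
      · rw [List.eraseIdx_append_of_lt_length (by simp [length_alt]; omega), wprod_append,
          wprod_append, ← mul_assoc] at hbi
        have hbi' : f b * wprod f (alt a b (j + 1)) = wprod f ((alt a b (j + 1)).eraseIdx i) :=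
          mul_right_cancel hbi
        rcases Nat.lt_or_ge i j with hij' | hij'
        · exfalso
          rcases Nat.eq_zero_or_pos i with rfl | hi0
          · simp only [alt, List.eraseIdx_zero, List.tail_cons, wprod_cons, ← mul_assoc] at hbi'
            have h1 : f b * f a = 1 := mul_eq_right.1 hbi'
            exact hab (hinj (mul_left_cancel (h1.trans (hinv b).symm)))
          · obtain ⟨m, hm, hm'⟩ := alt_erase_inner hinv i a b (j + 1) hi0 (by omega)
            have := hwr (b :: (m ++ r)) (by
              rw [wprod_cons, wprod_append, hm', ← hbi', wprod_append, ← mul_assoc, ← mul_assoc,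
                hinv, one_mul])
            simp [length_alt] at this
            omega
        · obtain rfl : i = j := by omega
          rw [alt_erase_last] at hbi'
          have hbraid : wprod f (alt b a (i + 1)) = wprod f (alt a b (i + 1)) := by
            rw [show alt b a (i + 1) = b :: alt a b i from rfl, wprod_cons, ← hbi', ← mul_assoc,
              hinv, one_mul]
          have hpow : (f a * f b) ^ (i + 1) = 1 := by
            rw [← alt_prod_div f a b (hinv a) (hinv b), hbraid, mul_inv_cancel]
          have hg' : wprod g (alt a b (i + 1)) = wprod g (alt b a (i + 1)) := by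
            rw [← mul_inv_eq_one, alt_prod_div g a b (hg a) (hg b), hrel a b _ hpow]
          have hw' : wprod f (alt b a (i + 1) ++ r) = wprod f (b :: v₀) := by
            rw [wprod_append, hbraid, ← wprod_append, hw, heab]
          have h1 : wprod g (a :: u₀) = wprod g (alt a b (i + 1) ++ r) := by
            refine same a u₀ (alt b a i ++ r) hu ha ?_ hw.symm
            exact hwr
          have h2 : wprod g (b :: v₀) = wprod g (alt b a (i + 1) ++ r) := by
            refine same b v₀ (alt a b i ++ r) hv hb ?_ hw'.symm
            exact hb.of_eq hw' (by simp [length_alt, hv]; omega)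
          rw [h1, h2, wprod_append, wprod_append, hg']

include hinv hinj hex hg hrel in
theorem exists_reduced_eq : ∀ l : List ι, ∃ l' : List ι,
    Reduced f l' ∧ wprod f l' = wprod f l ∧ wprod g l' = wprod g l
  | [] => ⟨[], fun _ _ => Nat.zero_le _, rfl, rfl⟩
  | s :: l => by
    obtain ⟨l', hl', hf', hg'⟩ := exists_reduced_eq l
    by_cases hred : Reduced f (s :: l')
    · exact ⟨s :: l', hred, by simp [wprod_cons, hf'], by simp [wprod_cons, hg']⟩
    obtain ⟨i, hi, he⟩ := hex s l' hl' hred
    have hlen : (l'.eraseIdx i).length + 1 = l'.length := by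
      rw [List.length_eraseIdx]; split <;> omega
    have hf2 : wprod f (s :: l'.eraseIdx i) = wprod f l' := by
      rw [wprod_cons, ← he, ← mul_assoc, hinv, one_mul]
    have h2 : Reduced f (s :: l'.eraseIdx i) := hl'.of_eq hf2 (by simp; omega)
    have := matsumoto hinv hinj hex g hg hrel l'.length l' _ rfl hl' h2 hf2.symm
    refine ⟨l'.eraseIdx i, h2.tail, by rw [wprod_cons, ← hf', he], ?_⟩
    rw [wprod_cons (f := g), ← hg', this, wprod_cons, ← mul_assoc, hg, one_mul]

end

/-- A group generated by pairwise distinct involutions with the exchange condition is a Coxeter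
group, with these involutions as simple reflections. -/
theorem exists_coxeterSystem (hinv : ∀ i, f i * f i = 1) (hinj : Function.Injective f)
    (hgen : ∀ w : W, ∃ l : List ι, wprod f l = w) (hex : HasExchange f) :
    ∃ (M : CoxeterMatrix ι) (cs : CoxeterSystem M W), ∀ i, cs.simple i = f i := by
  classical
  let M : CoxeterMatrix ι :=
    { M := Matrix.of fun i j => orderOf (f i * f j)
      isSymm := Matrix.IsSymm.ext fun i j => by
        change orderOf (f j * f i) = orderOf (f i * f j)
        rw [← orderOf_inv, mul_inv_rev, inv_eq_of_mul_eq_one_right (hinv i),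
          inv_eq_of_mul_eq_one_right (hinv j)]
      diagonal := fun i => by simp [hinv]
      off_diagonal := fun i j hij => by
        change orderOf (f i * f j) ≠ 1
        rw [Ne, orderOf_eq_one_iff]
        intro h
        exact hij (hinj (mul_left_cancel (h.trans (hinv i).symm)).symm) }
  let cs₀ := M.toCoxeterSystem
  have hlift : M.IsLiftable f := fun i j => pow_orderOf_eq_one (f i * f j)
  let φ : M.Group →* W := cs₀.lift ⟨f, hlift⟩
  have hφ : ∀ i, φ (cs₀.simple i) = f i := fun i => cs₀.lift_apply_simple hlift i
  have hφw : ∀ l : List ι, φ (wprod cs₀.simple l) = wprod f l := by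
    intro l
    induction l with
    | nil => simp [wprod_nil]
    | cons i l ih => rw [wprod_cons, wprod_cons, map_mul, hφ, ih]
  have hrel : ∀ (a b : ι) (n : ℕ), (f a * f b) ^ n = 1 →
      (cs₀.simple a * cs₀.simple b) ^ n = 1 := by
    intro a b n h
    obtain ⟨c, hc⟩ := orderOf_dvd_of_pow_eq_one h
    have h2 : (cs₀.simple a * cs₀.simple b) ^ orderOf (f a * f b) = 1 :=
      cs₀.simple_mul_simple_pow a b
    rw [hc, pow_mul, h2, one_pow]
  have hword : ∀ x : M.Group, ∃ l : List ι, wprod cs₀.simple l = x := by
    intro x
    induction x using cs₀.simple_induction_left with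
    | one => exact ⟨[], rfl⟩
    | mul_simple_left w i ih =>
      obtain ⟨l, rfl⟩ := ih
      exact ⟨i :: l, wprod_cons i l⟩
  have hbij : Function.Bijective φ := by
    refine ⟨(injective_iff_map_eq_one φ).2 fun x hx => ?_, fun w => ?_⟩
    · obtain ⟨l, rfl⟩ := hword x
      obtain ⟨l', hred, hf', hg'⟩ := exists_reduced_eq hinv hinj hex cs₀.simple
        cs₀.simple_mul_simple_self hrel l
      rw [hφw] at hx
      have := hred [] (by rw [hf', hx, wprod_nil])
      rw [List.length_nil, Nat.le_zero, List.length_eq_zero_iff] at this
      rw [← hg', this, wprod_nil]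
    · obtain ⟨l, rfl⟩ := hgen w
      exact ⟨_, hφw l⟩
  exact ⟨M, cs₀.map (MulEquiv.ofBijective φ hbij), fun i => by simp; exact hφ i⟩

end Cfsg.Agent.Lib.Coxeter.Exchange
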