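import Mathlib

/-!
Certificates for the order of a finite Coxeter group and the faithfulness of its representation
on the weight lattice.  For each level of a chain `J ⊃ J' ⊃ ⋯ ⊃ []` of sets of generators one
gives the orbit of a fundamental weight under `⟨J⟩` and a list of Todd–Coxeter deductions showing
that `⟨J'⟩` has at most that many cosets in `⟨J⟩`.
-/

set_option autoImplicit false

namespace Cfsg.Agent.Lib.Coxeter.WeylOrder

structure Level where
  p : ℕ
  J : List ℕ
  words : List (List ℕ)
  table : List (List ℤ)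
  nxt : List (List ℕ)
  ded : List (ℕ × ℕ × ℕ)

def Level.nx (L : Level) (j c : ℕ) : ℕ := (L.nxt.getD j []).getD c 0

def Level.word (L : Level) (c : ℕ) : List ℕ := L.words.getD c []

def cGet (C : List (List ℤ)) (i k : ℕ) : ℤ := (C.getD i []).getD k 0

def actL (n : ℕ) (C : List (List ℤ)) (i : ℕ) (v : List ℤ) : List ℤ :=
  (List.range n).map fun k => v.getD k 0 - v.getD i 0 * cGet C i k

def unitL (n p : ℕ) : List ℤ := (List.range n).map fun k => if k = p then (1 : ℤ) else 0

def mGet {n : ℕ} (M : CoxeterMatrix (Fin n)) (i j : ℕ) : ℕ :=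
  if h : i < n ∧ j < n then M ⟨i, h.1⟩ ⟨j, h.2⟩ else 1

/-- The word `j i j ⋯ j` of length `2 m - 1`. -/
def altWord (i j : ℕ) : ℕ → List ℕ
  | 0 => []
  | 1 => [j]
  | (m + 2) => j :: i :: altWord i j (m + 1)

def setBit (K e : ℕ) : ℕ := K ||| (1 <<< e)

def Level.walk (L : Level) (K : ℕ) : List ℕ → ℕ → Option ℕ
  | [], c => some c
  | g :: gs, c =>
    if c < L.words.length ∧ K.testBit (g * L.words.length + c) then L.walk K gs (L.nx g c) else none

def Level.initEdge (L : Level) (J' : List ℕ) (j c : ℕ) : Bool :=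
  decide (L.word (L.nx j c) = j :: L.word c) || decide (c = 0 ∧ j ∈ J' ∧ L.nx j c = 0)

def Level.backEdge (L : Level) (j c : ℕ) : Bool :=
  decide (L.word c = j :: L.word (L.nx j c))

def Level.initK (L : Level) (J' : List ℕ) : ℕ :=
  L.J.foldl (fun K j => (List.range L.words.length).foldl
    (fun K c => if L.initEdge J' j c || L.backEdge j c then setBit K (j * L.words.length + c) else K) K) 0

def Level.dedStep {n : ℕ} (M : CoxeterMatrix (Fin n)) (L : Level) (K : ℕ) (e : ℕ × ℕ × ℕ) : ℕ :=
  if e.2.1 < n ∧ e.2.2 < n ∧ e.1 < L.words.length ∧ L.nx e.2.1 e.1 < L.words.length ∧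
      L.nx e.2.1 (L.nx e.2.1 e.1) = e.1 ∧
      mGet M e.2.1 e.2.2 ≠ 0 ∧ L.walk K (altWord e.2.1 e.2.2 (mGet M e.2.1 e.2.2)) e.1 = some (L.nx e.2.1 e.1) then
    setBit (setBit K (e.2.1 * L.words.length + e.1)) (e.2.1 * L.words.length + L.nx e.2.1 e.1)
  else K

def Level.check {n : ℕ} (M : CoxeterMatrix (Fin n)) (C : List (List ℤ)) (L : Level) (J' : List ℕ) : Bool :=
  decide (L.p < n) && decide (∀ j ∈ L.J, j < n) && decide (0 < L.words.length) &&
  decide (L.table.length = L.words.length) &&
  decide (L.word 0 = []) && decide (L.table.getD 0 [] = unitL n L.p) &&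
  decide (∀ j ∈ J', j ∈ L.J ∧ j ≠ L.p) &&
  decide (L.table.Nodup) &&
  (List.range L.words.length).all (fun c => decide ((∀ j ∈ L.word c, j ∈ L.J) ∧ (L.word c).foldr L.nx 0 = c)) &&
  L.J.all (fun j => (List.range L.words.length).all fun c =>
    decide (L.nx j c < L.words.length) &&
    decide (actL n C j (L.table.getD c []) = L.table.getD (L.nx j c) []) &&
    (L.ded.foldl (L.dedStep M) (L.initK J')).testBit (j * L.words.length + c))

def checkChain {n : ℕ} (M : CoxeterMatrix (Fin n)) (C : List (List ℤ)) : List Level → List ℕ → Bool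
  | [], J => decide (J = [])
  | L :: Ls, J => decide (L.J = J) && (L.check M C (J.erase L.p) && checkChain M C Ls (J.erase L.p))

def checkRep {n : ℕ} (M : CoxeterMatrix (Fin n)) (C : List (List ℤ)) : Bool :=
  (List.range n).all fun i => (List.range n).all fun j => (List.range n).all fun k =>
    decide ((fun v => actL n C i (actL n C j v))^[mGet M i j] (unitL n k) = unitL n k)

def checkAll {n : ℕ} (M : CoxeterMatrix (Fin n)) (C : List (List ℤ)) (Ls : List Level) : Bool :=
  checkRep M C && checkChain M C Ls (List.range n)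

section
variable {n : ℕ} (M : CoxeterMatrix (Fin n)) (C : List (List ℤ))

/-- The simple reflection with index `j` (1 out of range). -/
def gen (j : ℕ) : M.Group := if h : j < n then M.simple ⟨j, h⟩ else 1

def genProd (w : List ℕ) : M.Group := (w.map (gen M)).prod

lemma gen_mul_self (j : ℕ) : gen M j * gen M j = 1 := by
  unfold gen
  split
  · exact M.toCoxeterSystem.simple_mul_simple_self _
  · simp

lemma gen_pow {i j : ℕ} (hi : i < n) (hj : j < n) : (gen M i * gen M j) ^ mGet M i j = 1 := by
  simp only [gen, hi, hj, dif_pos, mGet, and_self]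
  exact M.toCoxeterSystem.simple_mul_simple_pow ⟨i, hi⟩ ⟨j, hj⟩

lemma genProd_cons (j : ℕ) (w : List ℕ) : genProd M (j :: w) = gen M j * genProd M w := by
  simp [genProd]

lemma genProd_altWord (i j : ℕ) : ∀ m, gen M i * genProd M (altWord i j (m + 1)) = (gen M i * gen M j) ^ (m + 1)
  | 0 => by simp [altWord, genProd]
  | (m + 1) => by
    rw [altWord, genProd_cons, genProd_cons, genProd_altWord i j m, pow_succ' _ (m + 1), mul_assoc]

lemma genProd_altWord_eq {i j : ℕ} (hi : i < n) (hj : j < n) (hm : mGet M i j ≠ 0) :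
    genProd M (altWord i j (mGet M i j)) = gen M i := by
  obtain ⟨m, hm'⟩ := Nat.exists_eq_succ_of_ne_zero hm
  have h := genProd_altWord M i j m
  rw [hm', Nat.succ_eq_add_one]
  have h2 := gen_pow M hi hj
  rw [hm', Nat.succ_eq_add_one] at h2
  rw [h2] at h
  calc genProd M (altWord i j (m + 1))
      = gen M i * (gen M i * genProd M (altWord i j (m + 1))) := by
        rw [← mul_assoc, gen_mul_self, one_mul]
    _ = gen M i := by rw [h, mul_one]

lemma genProd_reverse : ∀ w : List ℕ, genProd M w.reverse = (genProd M w)⁻¹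
  | [] => by simp [genProd]
  | a :: w => by
    have h1 : genProd M (a :: w).reverse = genProd M w.reverse * gen M a := by simp [genProd]
    rw [h1, genProd_reverse w, genProd_cons, mul_inv_rev]
    congr 1
    exact eq_inv_of_mul_eq_one_left (gen_mul_self M a)

def sub (J : List ℕ) : Subgroup M.Group := Subgroup.closure (gen M '' {j | j ∈ J})

lemma gen_mem_sub {J : List ℕ} {j : ℕ} (h : j ∈ J) : gen M j ∈ sub M J :=
  Subgroup.subset_closure ⟨j, h, rfl⟩

lemma genProd_mem_sub {J : List ℕ} : ∀ {w : List ℕ}, (∀ j ∈ w, j ∈ J) → genProd M w ∈ sub M J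
  | [], _ => by simp [genProd]
  | a :: w, h => by
    rw [genProd_cons]
    exact mul_mem (gen_mem_sub M (h a (by simp))) (genProd_mem_sub fun j hj => h j (by simp [hj]))

/-- The simple reflection on weight coordinates. -/
def reflect (i : ℕ) : Module.End ℤ (Fin n → ℤ) where
  toFun v := fun k => v k - (if h : i < n then v ⟨i, h⟩ else 0) * cGet C i k
  map_add' u v := by funext k; split <;> simp_all <;> ring
  map_smul' a v := by funext k; split <;> simp_all <;> ring

lemma getD_ofFn (v : Fin n → ℤ) (k : ℕ) :
    (List.ofFn v).getD k 0 = if h : k < n then v ⟨k, h⟩ else 0 := by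
  split
  · next h => simp [List.getD_eq_getElem?_getD, h]
  · next h => simp [List.getD_eq_getElem?_getD, h]

lemma ofFn_reflect (i : ℕ) (v : Fin n → ℤ) :
    List.ofFn (reflect C i v) = actL n C i (List.ofFn v) := by
  apply List.ext_getElem
  · simp [actL]
  · intro k h1 h2
    simp only [List.length_ofFn] at h1
    simp [actL, reflect, List.getD_eq_getElem?_getD, h1]
    split <;> simp

lemma ofFn_single (p : ℕ) (hp : p < n) :
    List.ofFn (Pi.single (⟨p, hp⟩ : Fin n) (1 : ℤ)) = unitL n p := by
  apply List.ext_getElem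
  · simp [unitL]
  · intro k h1 h2
    simp [unitL, Pi.single_apply, Fin.ext_iff]

lemma liftable {M : CoxeterMatrix (Fin n)} {C : List (List ℤ)} (h : checkRep M C = true) :
    M.IsLiftable (fun i : Fin n => reflect (n := n) C i) := by
  intro i j
  simp only [checkRep, List.all_eq_true, List.mem_range, decide_eq_true_eq] at h
  refine LinearMap.pi_ext' fun k => LinearMap.ext_ring ?_
  simp only [LinearMap.coe_comp, LinearMap.coe_single, Function.comp_apply, Module.End.one_apply]
  apply List.ofFn_injective
  have key : ∀ (m : ℕ) (v : Fin n → ℤ),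
      List.ofFn (((reflect C i * reflect C j) ^ m : Module.End ℤ (Fin n → ℤ)) v) =
        (fun v => actL n C i (actL n C j v))^[m] (List.ofFn v) := by
    intro m
    induction m with
    | zero => simp
    | succ m ih =>
      intro v
      rw [pow_succ', Module.End.mul_apply, Module.End.mul_apply, ofFn_reflect, ofFn_reflect, ih,
        Function.iterate_succ_apply']
  rw [key, ofFn_single _ k.2]
  have := h i i.2 j j.2 k k.2
  simpa [mGet] using this

variable {M C}
variable (h : checkRep M C = true)

/-- The representation on weight coordinates. -/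
def rep : M.Group →* Module.End ℤ (Fin n → ℤ) :=
  M.toCoxeterSystem.lift ⟨fun i : Fin n => reflect (n := n) C i, liftable h⟩

lemma rep_gen {j : ℕ} (hj : j < n) : rep h (gen M j) = reflect (n := n) C j := by
  simp only [gen, hj, dif_pos, rep]
  rw [← CoxeterMatrix.toCoxeterSystem_simple]
  exact CoxeterSystem.lift_apply_simple _ (liftable h) ⟨j, hj⟩

lemma ofFn_rep_genProd : ∀ {w : List ℕ}, (∀ j ∈ w, j < n) → ∀ v : Fin n → ℤ,
    List.ofFn (rep h (genProd M w) v) = w.foldr (actL n C) (List.ofFn v)
  | [], _, v => by simp [genProd]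
  | a :: w, hw, v => by
    rw [genProd_cons, map_mul, Module.End.mul_apply, rep_gen h (hw a (by simp)), ofFn_reflect,
      ofFn_rep_genProd (fun j hj => hw j (by simp [hj])) v]
    rfl

lemma mem_setBit {P : ℕ → Prop} {K e : ℕ} (hK : ∀ x, K.testBit x → P x) (he : P e) :
    ∀ x, (setBit K e).testBit x → P x := by
  intro x hx
  simp only [setBit, Nat.testBit_lor, Nat.one_shiftLeft, Nat.testBit_two_pow, Bool.or_eq_true,
    decide_eq_true_eq] at hx
  rcases hx with hx | rfl
  · exact hK x hx
  · exact he

section level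
variable (L : Level) (J' : List ℕ) (M)

/-- The edge `(j, c)` of the coset table is correct. -/
def Edge (j c : ℕ) : Prop :=
  (((gen M j * genProd M (L.word c) : M.Group)) : M.Group ⧸ sub M J') =
    ((genProd M (L.word (L.nx j c)) : M.Group) : M.Group ⧸ sub M J')

def EdgeBit (e : ℕ) : Prop :=
  Edge M L J' (e / L.words.length) (e % L.words.length)

lemma edgeBit_iff {j c : ℕ} (hc : c < L.words.length) :
    EdgeBit M L J' (j * L.words.length + c) ↔ Edge M L J' j c := by
  have hpos : 0 < L.words.length := by omega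
  rw [EdgeBit, add_comm (j * L.words.length), Nat.add_mul_div_right _ _ hpos, Nat.add_mul_mod_self_right,
    Nat.div_eq_of_lt hc, Nat.mod_eq_of_lt hc, zero_add]

variable {L J'}

lemma walk_sound {K : ℕ} (hK : ∀ x, K.testBit x → EdgeBit M L J' x) :
    ∀ (gs : List ℕ) (c d : ℕ), L.walk K gs c = some d →
      ((genProd M gs.reverse * genProd M (L.word c) : M.Group) : M.Group ⧸ sub M J') =
        ((genProd M (L.word d) : M.Group) : M.Group ⧸ sub M J')
  | [], c, d, hw => by
    simp only [Level.walk, Option.some.injEq] at hw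
    subst hw
    simp [genProd]
  | g :: gs, c, d, hw => by
    simp only [Level.walk] at hw
    split at hw
    · next hc =>
      have he : Edge M L J' g c := (edgeBit_iff M L J' hc.1).1 (hK _ hc.2)
      have ih := walk_sound hK gs _ d hw
      have h2 := congrArg (fun x : M.Group ⧸ sub M J' => genProd M gs.reverse • x) he
      simp only [MulAction.Quotient.smul_mk, smul_eq_mul] at h2
      rw [← ih, ← h2]
      simp [genProd, mul_assoc]
    · simp at hw

lemma edge_symm {j c : ℕ} (hnn : L.nx j (L.nx j c) = c) (he : Edge M L J' j c) :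
    Edge M L J' j (L.nx j c) := by
  have h2 := congrArg (fun x : M.Group ⧸ sub M J' => gen M j • x) he
  simp only [MulAction.Quotient.smul_mk, smul_eq_mul, ← mul_assoc, gen_mul_self, one_mul] at h2
  rw [Edge, hnn]
  exact h2.symm

lemma initK_sound (hw0 : L.word 0 = []) : ∀ x, (L.initK J').testBit x → EdgeBit M L J' x := by
  rw [Level.initK]
  generalize hl : L.J = l
  clear hl
  suffices hgen : ∀ (l : List ℕ) (K : ℕ), (∀ x, K.testBit x → EdgeBit M L J' x) →
      ∀ x, (l.foldl (fun K j => (List.range L.words.length).foldl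
        (fun K c => if L.initEdge J' j c || L.backEdge j c then setBit K (j * L.words.length + c) else K) K)
        K).testBit x → EdgeBit M L J' x by
    exact hgen l 0 (by simp)
  intro l
  induction l with
  | nil => intro K hK; simpa using hK
  | cons j l ih =>
    intro K hK
    apply ih
    suffices hgen : ∀ (r : List ℕ), (∀ c ∈ r, c < L.words.length) → ∀ (K : ℕ),
        (∀ x, K.testBit x → EdgeBit M L J' x) → ∀ x, (r.foldl
        (fun K c => if L.initEdge J' j c || L.backEdge j c then setBit K (j * L.words.length + c) else K)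
        K).testBit x → EdgeBit M L J' x by
      exact hgen _ (by simp) K hK
    intro r
    induction r with
    | nil => intro _ K hK; simpa using hK
    | cons c r ih =>
      intro hr K hK
      apply ih (fun c' hc' => hr c' (by simp [hc']))
      dsimp only
      split
      · next hcond =>
        refine mem_setBit hK ((edgeBit_iff M L J' (hr c (by simp))).2 ?_)
        simp only [Bool.or_eq_true, Level.initEdge, Level.backEdge, decide_eq_true_eq] at hcond
        rcases hcond with (hcond | ⟨rfl, hj, hz⟩) | hcond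
        · rw [Edge, hcond, genProd_cons]
        · rw [Edge, hz]
          refine (QuotientGroup.eq).2 ?_
          have : (gen M j * genProd M (L.word 0))⁻¹ * genProd M (L.word 0) =
              (genProd M (L.word 0))⁻¹ * (gen M j)⁻¹ * genProd M (L.word 0) := by group
          rw [this]
          simpa [hw0, genProd] using inv_mem (gen_mem_sub M hj)
        · rw [Edge, hcond, genProd_cons, ← mul_assoc, gen_mul_self, one_mul]
      · exact hK

end level

/-- What `Level.check` certifies. -/
structure Good (h : checkRep M C = true) (L : Level) (J' : List ℕ) : Prop where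
  hp : L.p < n
  hJ : ∀ j ∈ L.J, j < n
  hsub : ∀ j ∈ J', j ∈ L.J
  edge : ∀ j ∈ L.J, ∀ c < L.words.length, L.nx j c < L.words.length ∧ Edge M L J' j c
  word0 : L.word 0 = []
  wordJ : ∀ c < L.words.length, ∀ j ∈ L.word c, j ∈ L.J
  pos : 0 < L.words.length
  fixed : ∀ x ∈ sub M J', rep h x (Pi.single ⟨L.p, hp⟩ 1) = Pi.single ⟨L.p, hp⟩ 1
  inj : ∀ c < L.words.length, ∀ d < L.words.length,
    rep h (genProd M (L.word c)) (Pi.single ⟨L.p, hp⟩ 1) =
      rep h (genProd M (L.word d)) (Pi.single ⟨L.p, hp⟩ 1) → c = d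

lemma nx_fixed_single {j p : ℕ} (hjp : j ≠ p) (hj : j < n) (hp : p < n) :
    reflect (n := n) C j (Pi.single (⟨p, hp⟩ : Fin n) (1 : ℤ)) = Pi.single ⟨p, hp⟩ 1 := by
  funext k
  simp [reflect, hj, Pi.single_apply, Fin.ext_iff, hjp]

lemma good_of_check (L : Level) (J' : List ℕ) (hc : L.check M C J' = true) : Good h L J' := by
  simp only [Level.check, Bool.and_eq_true, decide_eq_true_eq, List.all_eq_true, List.mem_range] at hc
  obtain ⟨⟨⟨⟨⟨⟨⟨⟨⟨hp, hJ⟩, hpos⟩, hlen⟩, hw0⟩, ht0⟩, hJ'⟩, hnd⟩, hwords⟩, hedge⟩ := hc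
  have hsound : ∀ x, (L.ded.foldl (L.dedStep M) (L.initK J')).testBit x → EdgeBit M L J' x := by
    have : ∀ (l : List (ℕ × ℕ × ℕ)) (K : ℕ), (∀ x, K.testBit x → EdgeBit M L J' x) →
        ∀ x, (l.foldl (L.dedStep M) K).testBit x → EdgeBit M L J' x := by
      intro l
      induction l with
      | nil => intro K hK; simpa using hK
      | cons e l ih =>
        intro K hK
        apply ih
        unfold Level.dedStep
        split
        · next hcond =>
          obtain ⟨h1, h2, h3, h4, h5, hm, h6⟩ := hcond
          have he : Edge M L J' e.2.1 e.1 := by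
            have hs := walk_sound M hK _ _ _ h6
            rw [genProd_reverse, genProd_altWord_eq M h1 h2 hm] at hs
            rwa [inv_eq_of_mul_eq_one_left (gen_mul_self M e.2.1)] at hs
          refine mem_setBit (mem_setBit hK ((edgeBit_iff M L J' h3).2 he)) ?_
          exact (edgeBit_iff M L J' h4).2 (edge_symm M h5 he)
        · exact hK
    exact this _ _ (initK_sound M hw0)
  have hE : ∀ j ∈ L.J, ∀ c < L.words.length, L.nx j c < L.words.length ∧ Edge M L J' j c :=
    fun j hj c hc => ⟨(hedge j hj c hc).1.1, (edgeBit_iff M L J' hc).1 (hsound _ (hedge j hj c hc).2)⟩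
  have htab : ∀ w : List ℕ, (∀ j ∈ w, j ∈ L.J) →
      w.foldr L.nx 0 < L.words.length ∧
        w.foldr (actL n C) (unitL n L.p) = L.table.getD (w.foldr L.nx 0) [] := by
    intro w
    induction w with
    | nil => intro _; exact ⟨hpos, ht0.symm⟩
    | cons a w ih =>
      intro hw
      obtain ⟨hlt, heq⟩ := ih fun j hj => hw j (by simp [hj])
      have := hedge a (hw a (by simp)) _ hlt
      exact ⟨this.1.1, by rw [List.foldr_cons, List.foldr_cons, heq, this.1.2]⟩
  refine ⟨hp, hJ, fun j hj => (hJ' j hj).1, hE, hw0, fun c hc => (hwords c hc).1, hpos, ?_, ?_⟩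
  · intro x hx
    induction hx using Subgroup.closure_induction with
    | mem y hy =>
      obtain ⟨j, hj, rfl⟩ := hy
      rw [rep_gen h (hJ j (hJ' j hj).1), nx_fixed_single (hJ' j hj).2 (hJ j (hJ' j hj).1) hp]
    | one => simp
    | mul a b _ _ ha hb => rw [map_mul, Module.End.mul_apply, hb, ha]
    | inv a _ ha =>
      conv_lhs => rw [← ha]
      rw [← Module.End.mul_apply, ← map_mul, inv_mul_cancel, map_one, Module.End.one_apply]
  · intro c hc d hd heq
    have key : ∀ c < L.words.length,
        List.ofFn (rep h (genProd M (L.word c)) (Pi.single ⟨L.p, hp⟩ 1)) = L.table.getD c [] := by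
      intro c hc
      rw [ofFn_rep_genProd h (fun j hj => hJ j ((hwords c hc).1 j hj)), ofFn_single,
        (htab _ (hwords c hc).1).2, (hwords c hc).2]
    have h2 := key c hc
    rw [heq, key d hd, List.getD_eq_getElem?_getD, List.getD_eq_getElem?_getD,
      List.getElem?_eq_getElem (by omega), List.getElem?_eq_getElem (by omega)] at h2
    exact ((List.Nodup.getElem_inj_iff hnd).1 h2).symm

lemma coset_exhaust {L : Level} {J' : List ℕ} (g : Good h L J') {x : M.Group} (hx : x ∈ sub M L.J) :
    ∃ c < L.words.length, ∃ y ∈ sub M J', x = genProd M (L.word c) * y := by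
  have key : ∀ z ∈ sub M L.J, (∀ c < L.words.length, ∃ d < L.words.length,
        ((z * genProd M (L.word c) : M.Group) : M.Group ⧸ sub M J') = ((genProd M (L.word d) : M.Group) : M.Group ⧸ sub M J')) ∧
      (∀ c < L.words.length, ∃ d < L.words.length,
        ((z⁻¹ * genProd M (L.word c) : M.Group) : M.Group ⧸ sub M J') = ((genProd M (L.word d) : M.Group) : M.Group ⧸ sub M J')) := by
    intro z hz
    induction hz using Subgroup.closure_induction with
    | mem y hy =>
      obtain ⟨j, hj, rfl⟩ := hy
      rw [inv_eq_of_mul_eq_one_left (gen_mul_self M j)]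
      exact ⟨fun c hc => ⟨_, g.edge j hj c hc⟩, fun c hc => ⟨_, g.edge j hj c hc⟩⟩
    | one => exact ⟨fun c hc => ⟨c, hc, by simp⟩, fun c hc => ⟨c, hc, by simp⟩⟩
    | mul a b _ _ ha hb =>
      constructor
      · intro c hc
        obtain ⟨d, hd, h1⟩ := hb.1 c hc
        obtain ⟨e, he, h2⟩ := ha.1 d hd
        refine ⟨e, he, ?_⟩
        rw [mul_assoc, ← smul_eq_mul a, ← MulAction.Quotient.smul_mk, h1, MulAction.Quotient.smul_mk,
          smul_eq_mul, h2]
      · intro c hc
        obtain ⟨d, hd, h1⟩ := ha.2 c hc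
        obtain ⟨e, he, h2⟩ := hb.2 d hd
        refine ⟨e, he, ?_⟩
        rw [mul_inv_rev, mul_assoc, ← smul_eq_mul b⁻¹, ← MulAction.Quotient.smul_mk, h1,
          MulAction.Quotient.smul_mk, smul_eq_mul, h2]
    | inv a _ ha => exact ⟨ha.2, by simpa using ha.1⟩
  obtain ⟨c, hc, h1⟩ := (key x hx).1 0 g.pos
  refine ⟨c, hc, (genProd M (L.word c))⁻¹ * x, ?_, by simp⟩
  have := QuotientGroup.eq.1 h1.symm
  simpa [g.word0, genProd] using this

lemma card_step {L : Level} {J' : List ℕ} (g : Good h L J') :
    Nat.card (sub M L.J) = L.words.length * Nat.card (sub M J') := by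
  have hle : sub M J' ≤ sub M L.J := Subgroup.closure_mono (Set.image_mono g.hsub)
  let f : Fin L.words.length × sub M J' → sub M L.J := fun a =>
    ⟨genProd M (L.word a.1) * a.2, mul_mem (genProd_mem_sub M (g.wordJ _ a.1.2)) (hle a.2.2)⟩
  have hf : Function.Bijective f := by
    constructor
    · rintro ⟨c, y⟩ ⟨d, z⟩ heq
      have heq' : genProd M (L.word c) * (y : M.Group) = genProd M (L.word d) * z := congrArg Subtype.val heq
      have h2 := congrArg (fun w => rep h w (Pi.single ⟨L.p, g.hp⟩ 1)) heq'
      simp only [map_mul, Module.End.mul_apply, g.fixed _ y.2, g.fixed _ z.2] at h2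
      obtain rfl : c = d := Fin.ext (g.inj _ c.2 _ d.2 h2)
      simp only [mul_right_inj] at heq'
      exact Prod.ext rfl (Subtype.ext heq')
    · rintro ⟨x, hx⟩
      obtain ⟨c, hc, y, hy, rfl⟩ := coset_exhaust h g hx
      exact ⟨(⟨c, hc⟩, ⟨y, hy⟩), rfl⟩
  rw [← Nat.card_eq_of_bijective f hf, Nat.card_prod, Nat.card_fin]

lemma faithful_step {L : Level} {J' : List ℕ} (g : Good h L J') {x : M.Group} (hx : x ∈ sub M L.J)
    (h1 : rep h x = 1) : x ∈ sub M J' := by
  obtain ⟨c, hc, y, hy, rfl⟩ := coset_exhaust h g hx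
  have h2 := congrArg (fun T : Module.End ℤ (Fin n → ℤ) => T (Pi.single ⟨L.p, g.hp⟩ 1)) h1
  simp only [map_mul, Module.End.mul_apply, Module.End.one_apply, g.fixed _ hy] at h2
  have : c = 0 := g.inj c hc 0 g.pos (by simpa [g.word0, genProd] using h2)
  subst this
  simpa [g.word0, genProd] using hy

lemma sub_nil : sub M [] = ⊥ := by simp [sub]

lemma chain_spec : ∀ (Ls : List Level) (J : List ℕ), checkChain M C Ls J = true →
    Nat.card (sub M J) = (Ls.map fun L => L.words.length).prod ∧
      ∀ x ∈ sub M J, rep h x = 1 → x = 1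
  | [], J, hc => by
    simp only [checkChain, decide_eq_true_eq] at hc
    subst hc
    rw [sub_nil]
    exact ⟨by simp, fun x hx _ => Subgroup.mem_bot.1 hx⟩
  | L :: Ls, J, hc => by
    simp only [checkChain, Bool.and_eq_true, decide_eq_true_eq] at hc
    obtain ⟨rfl, hL, hLs⟩ := hc
    have g := good_of_check h L _ hL
    obtain ⟨ihc, ihf⟩ := chain_spec Ls _ hLs
    exact ⟨by rw [card_step h g, ihc]; simp, fun x hx h1 => ihf x (faithful_step h g hx h1) h1⟩

lemma sub_range : sub M (List.range n) = ⊤ := by
  rw [eq_top_iff, ← M.toCoxeterSystem.subgroup_closure_range_simple, CoxeterMatrix.toCoxeterSystem_simple]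
  refine (Subgroup.closure_le _).2 ?_
  rintro _ ⟨i, rfl⟩
  have : gen M i = M.simple i := by simp [gen]
  rw [← this]
  exact gen_mem_sub M (by simp)

omit h in
theorem card_group (Ls : List Level) (hc : checkAll M C Ls = true) :
    Nat.card M.Group = (Ls.map fun L => L.words.length).prod := by
  simp only [checkAll, Bool.and_eq_true] at hc
  rw [← (chain_spec hc.1 Ls _ hc.2).1, sub_range, Subgroup.card_top]

omit h in
theorem eq_one_iff (Ls : List Level) (hc : checkAll M C Ls = true) (w : List ℕ) (hw : ∀ j ∈ w, j < n) :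
    genProd M w = 1 ↔ ∀ k < n, w.foldr (actL n C) (unitL n k) = unitL n k := by
  simp only [checkAll, Bool.and_eq_true] at hc
  constructor
  · intro h1 k hk
    rw [← ofFn_single k hk, ← ofFn_rep_genProd hc.1 hw, h1, map_one, Module.End.one_apply]
  · intro h1
    refine (chain_spec hc.1 Ls _ hc.2).2 _ (by rw [sub_range]; trivial) ?_
    refine LinearMap.pi_ext' fun k => LinearMap.ext_ring ?_
    simp only [LinearMap.coe_comp, LinearMap.coe_single, Function.comp_apply, Module.End.one_apply]
    apply List.ofFn_injective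
    rw [ofFn_rep_genProd hc.1 hw, ofFn_single _ k.2, h1 k k.2]

end

end Cfsg.Agent.Lib.Coxeter.WeylOrder
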